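import Mathlib
import Cfsg.Agent.Lib.Helper11.TFS3
import Cfsg.Agent.Lib.Helper11.FFTF
import Cfsg.Agent.Lib.Helper10.Offender2
import Cfsg.Agent.Lib.Helper2.KS12.PZ
import Cfsg.Agent.Lib.Helper16.BG.NilHall

/-!
Kurzweil–Stellmacher chapter 12 cluster, package P-FF, part "FF-min" (helper11).

For `L ∈ jOvergroups T` with `C = C_L(V)`, `V = Ω₁(Z(O₂(L)))`: the image of `J(L) = ⟨J(T)^L⟩`
in `L / C` is a direct product of copies of `S₃`; hence there is a normal subgroup `P` of `L`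
with `C ≤ P`, `P / C` abelian, containing every element of odd order of `J(L)`.
-/

set_option autoImplicit false

namespace Cfsg.Agent.Lib.Helper11.KS12

open scoped commutatorElement
open Cfsg Cfsg.Agent.Lib.Helper11 Cfsg.Agent.Lib.Helper11.FFT Cfsg.Agent.Lib.Helper11.FF
  Cfsg.Agent.Lib.Helper11.TFS Cfsg.Agent.Lib.Helper2.KS12

/-! ### facts on `S₃` -/

theorem perm3_comm : ∀ σ τ : Equiv.Perm (Fin 3), Equiv.Perm.sign σ = 1 → Equiv.Perm.sign τ = 1 →
    σ * τ = τ * σ := by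
  decide

theorem perm3_cube : ∀ σ : Equiv.Perm (Fin 3), Equiv.Perm.sign σ = 1 → σ ^ 3 = 1 := by
  decide

theorem sign_eq_one_of_odd {n : ℕ} (σ : Equiv.Perm (Fin n)) (h : Odd (orderOf σ)) :
    Equiv.Perm.sign σ = 1 := by
  have h1 : Equiv.Perm.sign σ ^ orderOf σ = 1 := by
    rw [← map_pow, pow_orderOf_eq_one, map_one]
  rcases Int.units_eq_one_or (Equiv.Perm.sign σ) with h2 | h2
  · exact h2
  · rw [h2, Odd.neg_one_pow h] at h1
    exact absurd h1 (by decide)

section X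

variable {X : Type*} [Group X] [Finite X]

/-- the image of `J(X)` in the holomorph of `V` is a direct product of copies of `S₃`. -/
theorem hol_struct (V : Subgroup X) [V.Normal] (hV : IsElementaryAbelian 2 V)
    (hsol : IsPSolvable 2 X) (hOp : pCore 2 ↥(psi V).range = ⊥)
    (hH1 : (thompsonSubgroup 2 X).map (psi V) ≠ ⊥) :
    ∃ n : ℕ, Nonempty (↥((thompsonSubgroup 2 X).map (psi V)) ≃* (Fin n → Equiv.Perm (Fin 3))) := by
  haveI : Fact (Nat.Prime 2) := ⟨Nat.prime_two⟩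
  haveI hYc : (thompsonSubgroup 2 X).Characteristic := (Cfsg.Agent.S0602.result (p := 2)).1
  haveI hYn : (thompsonSubgroup 2 X).Normal := Subgroup.normal_of_characteristic _
  obtain ⟨hs, hCK⟩ := setup_map_normal V hV hsol hOp (thompsonSubgroup 2 X)
  have hS3 : (thompsonSubgroup 2 X).map (psi V) = ⨆ A : {A : Subgroup (Hol V) //
      A ≤ (thompsonSubgroup 2 X).map (psi V) ∧ IsBestOffenderOn 2 (VV V) A},
        (A : Subgroup (Hol V)) := by
    apply le_antisymm
    · rw [Subgroup.map_le_iff_le_comap]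
      unfold Cfsg.thompsonSubgroup
      apply sSup_le
      intro A hA
      rw [← Subgroup.map_le_iff_le_comap]
      exact le_iSup (fun A : {A : Subgroup (Hol V) //
          A ≤ (thompsonSubgroup 2 X).map (psi V) ∧ IsBestOffenderOn 2 (VV V) A} =>
            (A : Subgroup (Hol V)))
        ⟨A.map (psi V), Subgroup.map_mono (Cfsg.Agent.Lib.Helper10.le_thompsonSubgroup hA),
          bestOffender_map V (Cfsg.Agent.Lib.Helper10.isBestOffenderOn_of_mem_max V A hV hA)⟩
    · exact iSup_le (fun A => A.2.1)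
  obtain ⟨-, hstr, hind, hsup, -, -⟩ := structure_thm hs hCK hS3 hH1
    (ι := {E : Subgroup (Hol V) // ∃ a, IsTransv 2 (VV V) ((thompsonSubgroup 2 X).map (psi V)) a ∧
      E = EE (FF.coreOf 2 ((thompsonSubgroup 2 X).map (psi V))) a})
    (fun E => E.1) Subtype.val_injective (fun i => i.2)
    (fun a ha => ⟨⟨_, a, ha, rfl⟩, rfl⟩)
  have hSL : Nonempty (Matrix.SpecialLinearGroup (Fin 2) (ZMod 2) ≃* Equiv.Perm (Fin 3)) :=
    Cfsg.Agent.S0250.result (F := ZMod 2) (by rw [ZMod.card])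
  obtain ⟨e0⟩ := hSL
  obtain ⟨e⟩ := exists_pi_equiv (fun E : {E : Subgroup (Hol V) //
      ∃ a, IsTransv 2 (VV V) ((thompsonSubgroup 2 X).map (psi V)) a ∧
        E = EE (FF.coreOf 2 ((thompsonSubgroup 2 X).map (psi V))) a} => E.1)
    ((thompsonSubgroup 2 X).map (psi V))
    (fun i => (hstr i).1) hind hsup (M := Equiv.Perm (Fin 3))
    (fun i => by
      obtain ⟨e1⟩ := (hstr i).2.1
      exact ⟨e1.trans e0⟩)
  exact ⟨_, ⟨e⟩⟩

/-- FF-min in a group `X`: a normal subgroup `P ≥ C_X(V)` with `P / C_X(V)` abelian containing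
the odd-order elements of `J(X)`. -/
theorem x_ff_min (V : Subgroup X) [V.Normal] (hV : IsElementaryAbelian 2 V)
    (hsol : IsPSolvable 2 X) (hOp : pCore 2 ↥(psi V).range = ⊥) :
    ∃ P : Subgroup X, P.Normal ∧ Subgroup.centralizer (V : Set X) ≤ P ∧
      ⁅P, P⁆ ≤ Subgroup.centralizer (V : Set X) ∧
      ∀ g ∈ thompsonSubgroup 2 X, Odd (orderOf g) → g ∈ P := by
  haveI : Fact (Nat.Prime 2) := ⟨Nat.prime_two⟩
  haveI hYc : (thompsonSubgroup 2 X).Characteristic := (Cfsg.Agent.S0602.result (p := 2)).1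
  haveI hYn : (thompsonSubgroup 2 X).Normal := Subgroup.normal_of_characteristic _
  haveI hCn : (Subgroup.centralizer (V : Set X)).Normal := Subgroup.normal_centralizer
  by_cases hH1 : (thompsonSubgroup 2 X).map (psi V) = ⊥
  · refine ⟨Subgroup.centralizer (V : Set X), hCn, le_rfl, Subgroup.commutator_le_left _ _, ?_⟩
    intro g hg _
    exact ((FFT.map_eq_bot_iff V _).mp hH1) hg
  obtain ⟨n, ⟨e⟩⟩ := hol_struct V hV hsol hOp hH1
  -- odd-order elements of `H` commute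
  have hodd_sign : ∀ h : ↥((thompsonSubgroup 2 X).map (psi V)), Odd (orderOf h) →
      ∀ i, Equiv.Perm.sign (e h i) = 1 := by
    intro h hh i
    apply sign_eq_one_of_odd
    have hd : orderOf (e h i) ∣ orderOf h := by
      apply orderOf_dvd_of_pow_eq_one
      have : (e h) ^ orderOf h = 1 := by rw [← map_pow, pow_orderOf_eq_one, map_one]
      have := congrFun this i
      simpa using this
    exact Odd.of_dvd_nat hh hd
  have hcomm : ∀ h k : ↥((thompsonSubgroup 2 X).map (psi V)), Odd (orderOf h) → Odd (orderOf k) →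
      h * k = k * h := by
    intro h k hh hk
    apply e.injective
    rw [map_mul, map_mul]
    funext i
    exact perm3_comm _ _ (hodd_sign h hh i) (hodd_sign k hk i)
  have hmul : ∀ h k : ↥((thompsonSubgroup 2 X).map (psi V)), Odd (orderOf h) → Odd (orderOf k) →
      Odd (orderOf (h * k)) := by
    intro h k hh hk
    have h3 : (h * k) ^ 3 = 1 := by
      apply e.injective
      rw [map_pow, map_mul, map_one]
      funext i
      have hs : Equiv.Perm.sign (e h i * e k i) = 1 := by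
        rw [map_mul, hodd_sign h hh i, hodd_sign k hk i, one_mul]
      exact perm3_cube _ hs
    exact Odd.of_dvd_nat (by decide) (orderOf_dvd_of_pow_eq_one h3)
  -- the subgroup `P`
  let P : Subgroup X :=
    { carrier := {x | ∃ hx : psi V x ∈ (thompsonSubgroup 2 X).map (psi V),
        Odd (orderOf (⟨psi V x, hx⟩ : ↥((thompsonSubgroup 2 X).map (psi V))))}
      one_mem' := by
        refine ⟨by rw [map_one]; exact Subgroup.one_mem _, ?_⟩
        have : (⟨psi V 1, by rw [map_one]; exact Subgroup.one_mem _⟩ :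
            ↥((thompsonSubgroup 2 X).map (psi V))) = 1 := Subtype.ext (map_one _)
        rw [this, orderOf_one]
        exact odd_one
      mul_mem' := by
        rintro x y ⟨hx, hxo⟩ ⟨hy, hyo⟩
        refine ⟨by rw [map_mul]; exact Subgroup.mul_mem _ hx hy, ?_⟩
        have : (⟨psi V (x * y), by rw [map_mul]; exact Subgroup.mul_mem _ hx hy⟩ :
            ↥((thompsonSubgroup 2 X).map (psi V))) = ⟨psi V x, hx⟩ * ⟨psi V y, hy⟩ :=
          Subtype.ext (map_mul _ _ _)
        rw [this]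
        exact hmul _ _ hxo hyo
      inv_mem' := by
        rintro x ⟨hx, hxo⟩
        refine ⟨by rw [map_inv]; exact Subgroup.inv_mem _ hx, ?_⟩
        have : (⟨psi V x⁻¹, by rw [map_inv]; exact Subgroup.inv_mem _ hx⟩ :
            ↥((thompsonSubgroup 2 X).map (psi V))) = (⟨psi V x, hx⟩)⁻¹ :=
          Subtype.ext (map_inv _ _)
        rw [this, orderOf_inv]
        exact hxo }
  have hPmem : ∀ x : X, x ∈ P ↔ ∃ hx : psi V x ∈ (thompsonSubgroup 2 X).map (psi V),
      Odd (orderOf (⟨psi V x, hx⟩ : ↥((thompsonSubgroup 2 X).map (psi V)))) := fun x => Iff.rfl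
  have hord : ∀ (x : X) (hx : psi V x ∈ (thompsonSubgroup 2 X).map (psi V)),
      orderOf (⟨psi V x, hx⟩ : ↥((thompsonSubgroup 2 X).map (psi V))) = orderOf (psi V x) :=
    fun x hx => (Subgroup.orderOf_coe (⟨psi V x, hx⟩ : ↥((thompsonSubgroup 2 X).map (psi V)))).symm
  refine ⟨P, ?_, ?_, ?_, ?_⟩
  · constructor
    intro x hx g
    obtain ⟨hxH, hxo⟩ := (hPmem x).mp hx
    rw [hord] at hxo
    obtain ⟨y, hy, hyx⟩ := hxH
    have h1 : psi V (g * x * g⁻¹) ∈ (thompsonSubgroup 2 X).map (psi V) := by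
      refine ⟨g * y * g⁻¹, hYn.conj_mem y hy g, ?_⟩
      rw [map_mul, map_mul, map_mul, map_mul, hyx]
    refine (hPmem _).mpr ⟨h1, ?_⟩
    rw [hord]
    have h2 : psi V (g * x * g⁻¹) = (MulAut.conj (psi V g)).toMonoidHom (psi V x) := by
      rw [map_mul, map_mul, map_inv]
      rfl
    rw [h2, orderOf_injective _ (MulAut.conj (psi V g)).injective]
    exact hxo
  · intro c hc
    rw [← psi_ker, MonoidHom.mem_ker] at hc
    have h1 : psi V c ∈ (thompsonSubgroup 2 X).map (psi V) := by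
      rw [hc]; exact Subgroup.one_mem _
    refine (hPmem c).mpr ⟨h1, ?_⟩
    rw [hord, hc, orderOf_one]
    exact odd_one
  · rw [Subgroup.commutator_le]
    intro x hx y hy
    obtain ⟨hxH, hxo⟩ := (hPmem x).mp hx
    obtain ⟨hyH, hyo⟩ := (hPmem y).mp hy
    have h1 := congrArg Subtype.val (hcomm _ _ hxo hyo)
    have h2 : psi V x * psi V y = psi V y * psi V x := h1
    rw [← psi_ker, MonoidHom.mem_ker, commutatorElement_def, map_mul, map_mul, map_mul, map_inv,
      map_inv, h2]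
    group
  · intro g hg hgo
    have h1 : psi V g ∈ (thompsonSubgroup 2 X).map (psi V) := ⟨g, hg, rfl⟩
    refine (hPmem g).mpr ⟨h1, ?_⟩
    rw [hord]
    exact Odd.of_dvd_nat hgo (orderOf_map_dvd (psi V) g)

end X

section G

variable {G : Type*} [Group G] [Finite G]

theorem le_normalizer_map_subtype' (L : Subgroup G) (P : Subgroup ↥L) [hP : P.Normal] :
    L ≤ Subgroup.normalizer ((P.map L.subtype : Subgroup G) : Set G) := by
  intro l hl
  rw [Subgroup.mem_normalizer_iff]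
  intro x
  constructor
  · rintro ⟨y, hy, rfl⟩
    exact ⟨⟨l, hl⟩ * y * ⟨l, hl⟩⁻¹, hP.conj_mem y hy _, rfl⟩
  · rintro ⟨y, hy, hyx⟩
    refine ⟨⟨l, hl⟩⁻¹ * y * ⟨l, hl⟩, ?_, ?_⟩
    · have := hP.conj_mem y hy ⟨l, hl⟩⁻¹
      simpa using this
    · have h2 : (y : G) = l * x * l⁻¹ := hyx
      simp only [Subgroup.subtype_apply, Subgroup.coe_mul, Subgroup.coe_inv]
      rw [h2]; group

/-- `J(T) ≤ J(L)` for a Sylow 2-subgroup `T` of `L`. -/
theorem thompsonSubgroupOf_le_of_isSylowTwoIn {T L : Subgroup G} (hT : IsSylowTwoIn T L) :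
    thompsonSubgroupOf 2 T ≤ thompsonSubgroupOf 2 L := by
  haveI : Fact (Nat.Prime 2) := ⟨Nat.prime_two⟩
  obtain ⟨hTL, hT2, hodd⟩ := hT
  have hsyl : ¬ 2 ∣ T.relIndex L := fun h2 =>
    (Nat.not_even_iff_odd.mpr hodd) (even_iff_two_dvd.mpr h2)
  rw [thompsonSubgroupOf_eq, thompsonSubgroupOf_eq]
  apply sSup_le_sSup
  rintro A ⟨hAT, hAe, hAmax⟩
  refine ⟨hAT.trans hTL, hAe, ?_⟩
  intro B hBL hBe
  obtain ⟨d, hd, hdB⟩ := Cfsg.Agent.Lib.Helper16.BG.rel_sylow_conj L B T hBL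
    (elemAb_isPGroup hBe) hT2 hsyl
  have hBd : B.map (MulAut.conj d).toMonoidHom ≤ T := by
    rintro _ ⟨v, hv, rfl⟩
    exact hdB v hv
  have h1 := hAmax _ hBd (elemAb_map (MulAut.conj d).toMonoidHom hBe)
  rwa [Subgroup.card_map_of_injective (MulAut.conj d).injective] at h1

/-- **FF-min.** For `L ∈ jOvergroups T`: a normal subgroup `P` of `L` with `C_L(V) ≤ P`,
`P / C_L(V)` abelian, containing every odd-order element of the `L`-invariant subgroup
`L1 = J(L) ≥ J(T)`. -/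
theorem ff_min (hN : ∀ N : Subgroup G, Cfsg.IsTwoLocal N → Group.IsSolvable ↥N)
    (hZ : ∀ S : Sylow 2 G, Subgroup.centralizer (Cfsg.omegaCenterOf (S : Subgroup G) : Set G) ≤
      Subgroup.normalizer ((S : Subgroup G) : Set G))
    {T L : Subgroup G} (hT1 : T ≠ ⊥) (hLT : L ∈ jOvergroups T) :
    ∃ P L1 : Subgroup G, CL L ≤ P ∧ P ≤ L ∧ L ≤ Subgroup.normalizer (P : Set G) ∧
      ⁅P, P⁆ ≤ CL L ∧ thompsonSubgroupOf 2 T ≤ L1 ∧ L1 ≤ L ∧
      L ≤ Subgroup.normalizer (L1 : Set G) ∧ ∀ g ∈ L1, Odd (orderOf g) → g ∈ P := by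
  haveI : Fact (Nat.Prime 2) := ⟨Nat.prime_two⟩
  obtain ⟨hT, -, hCQ⟩ := hLT
  haveI hsolL : Group.IsSolvable ↥L := isSolvable_of_mem_jOvergroups hN hT1 hCQ
  have hsol : IsPSolvable 2 ↥L := Cfsg.Agent.Lib.Helper79.isPSolvable_of_isSolvable 2 inferInstance
  haveI hVn : ((VL L).subgroupOf L).Normal :=
    (Subgroup.normal_subgroupOf_iff_le_normalizer (VL_le L)).mpr (le_normalizer_VL L)
  have hV : IsElementaryAbelian 2 ((VL L).subgroupOf L) :=
    Cfsg.Agent.Lib.Helper10.isElementaryAbelian_subgroupOf (VL_elemAb L) L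
  have hOp := pCore_range_eq_bot ((VL L).subgroupOf L)
    (pCore_quotient_centralizer_VL_eq_bot hZ hT hCQ)
  obtain ⟨P, hPn, hCP, hPab, hodd⟩ := x_ff_min ((VL L).subgroupOf L) hV hsol hOp
  haveI := hPn
  refine ⟨P.map L.subtype, thompsonSubgroupOf 2 L, ?_, Subgroup.map_subtype_le P,
    le_normalizer_map_subtype' L P, ?_, thompsonSubgroupOf_le_of_isSylowTwoIn hT,
    thompsonSubgroupOf_le 2 L,
    Subgroup.le_normalizer.trans (normalizer_le_normalizer_thompsonSubgroupOf 2 L), ?_⟩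
  · intro c hc
    exact ⟨⟨c, hc.1⟩, hCP ((mem_centralizer_VL_subgroupOf ⟨c, hc.1⟩).mpr hc), rfl⟩
  · rw [← Subgroup.map_commutator]
    rintro _ ⟨x, hx, rfl⟩
    exact (mem_centralizer_VL_subgroupOf x).mp (hPab hx)
  · intro g hg hgo
    obtain ⟨y, hy, rfl⟩ := hg
    refine ⟨y, hodd y hy ?_, rfl⟩
    have : orderOf ((L.subtype y : G)) = orderOf y := Subgroup.orderOf_coe y
    rw [← this]
    exact hgo

/-- Every `J(T)`-component inside `L` lies in every `P` as in `ff_min`. -/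
theorem jcomp_le_of_ff_min {T L K P L1 : Subgroup G} (hK : IsJComponent T K) (hKL : K ≤ L)
    (hJL1 : thompsonSubgroupOf 2 T ≤ L1) (hL1n : L ≤ Subgroup.normalizer (L1 : Set G))
    (hodd : ∀ g ∈ L1, Odd (orderOf g) → g ∈ P) : K ≤ P := by
  obtain ⟨hgen, hcomm, -, -, -, -⟩ := hK
  have hKL1 : K ≤ L1 := by
    have hc : ⁅K, thompsonSubgroupOf 2 T⁆ ≤ L1 := by
      rw [Subgroup.commutator_le]
      intro k hk j hj
      have h1 : ⁅k, j⁆ = (k * j * k⁻¹) * j⁻¹ := by rw [commutatorElement_def]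
      rw [h1]
      have hk' : k ∈ Subgroup.normalizer (L1 : Set G) := hL1n (hKL hk)
      exact L1.mul_mem ((Subgroup.mem_normalizer_iff.mp hk' j).mp (hJL1 hj))
        (L1.inv_mem (hJL1 hj))
    exact (le_of_eq hcomm.symm).trans hc
  rw [← hgen, Subgroup.closure_le]
  rintro g ⟨hgK, hgodd⟩
  exact hodd g (hKL1 hgK) hgodd

/-- Two `J(T)`-components inside `L ∈ jOvergroups T` commute modulo `C_L(V)`
(`hAb` of helper85's `hComm_core`). -/
theorem jcomp_comm_le (hN : ∀ N : Subgroup G, Cfsg.IsTwoLocal N → Group.IsSolvable ↥N)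
    (hZ : ∀ S : Sylow 2 G, Subgroup.centralizer (Cfsg.omegaCenterOf (S : Subgroup G) : Set G) ≤
      Subgroup.normalizer ((S : Subgroup G) : Set G))
    {T L : Subgroup G} (hT1 : T ≠ ⊥) (hLT : L ∈ jOvergroups T) :
    ∀ K1 K2 : Subgroup G, IsJComponent T K1 → IsJComponent T K2 → K1 ≤ L → K2 ≤ L →
      ⁅K1, K2⁆ ≤ L ⊓ Subgroup.centralizer (omegaCenterOf (pCoreOf 2 L) : Set G) := by
  obtain ⟨P, L1, -, -, -, hPab, hJL1, -, hL1n, hodd⟩ := ff_min hN hZ hT1 hLT
  intro K1 K2 hK1 hK2 hK1L hK2L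
  exact (Subgroup.commutator_mono (jcomp_le_of_ff_min hK1 hK1L hJL1 hL1n hodd)
    (jcomp_le_of_ff_min hK2 hK2L hJL1 hL1n hodd)).trans hPab

end G

end Cfsg.Agent.Lib.Helper11.KS12
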