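import Mathlib
import Cfsg.Agent.Lib.Helper11.KS12.FFMin

/-!
Kurzweil–Stellmacher chapter 12 cluster, package P-FF, part FF1 (helper11).

The `S₃`-factors `E_i` of the image of `J(L)` in `L / C_L(V)`, their subgroups `O₃(E_i)`, and the
preimages `D_i` in `L` (subgroups of the ambient group `G`).
-/

set_option autoImplicit false

namespace Cfsg.Agent.Lib.Helper11.KS12

open scoped commutatorElement
open Cfsg Cfsg.Agent.Lib.Helper11 Cfsg.Agent.Lib.Helper11.FFT Cfsg.Agent.Lib.Helper11.FF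
  Cfsg.Agent.Lib.Helper11.TFS Cfsg.Agent.Lib.Helper2.KS12

/-! ### more facts on `S₃` -/

theorem perm3_sign_of_cube : ∀ σ : Equiv.Perm (Fin 3), σ ^ 3 = 1 → Equiv.Perm.sign σ = 1 := by
  decide

/-- the subgroup generated by the elements of order dividing 3. -/
def O3 {M : Type*} [Group M] (F : Subgroup M) : Subgroup M :=
  Subgroup.closure {x : M | x ∈ F ∧ x ^ 3 = 1}

theorem O3_le {M : Type*} [Group M] (F : Subgroup M) : O3 F ≤ F := by
  unfold O3
  rw [Subgroup.closure_le]
  exact fun x hx => hx.1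

theorem O3_normalizer {M : Type*} [Group M] (F : Subgroup M) :
    Subgroup.normalizer (F : Set M) ≤ Subgroup.normalizer (O3 F : Set M) := by
  intro g hg
  have key : ∀ g : M, g ∈ Subgroup.normalizer (F : Set M) → ∀ x ∈ O3 F, g * x * g⁻¹ ∈ O3 F := by
    intro g hg x hx
    unfold O3 at hx ⊢
    induction hx using Subgroup.closure_induction with
    | mem y hy =>
      apply Subgroup.subset_closure
      refine ⟨(Subgroup.mem_normalizer_iff.mp hg y).mp hy.1, ?_⟩
      rw [conj_pow, hy.2, mul_one, mul_inv_cancel]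
    | one => simp
    | mul a b _ _ ha hb =>
      have e : g * (a * b) * g⁻¹ = (g * a * g⁻¹) * (g * b * g⁻¹) := by group
      rw [e]
      exact Subgroup.mul_mem _ ha hb
    | inv a _ ha =>
      have e : g * a⁻¹ * g⁻¹ = (g * a * g⁻¹)⁻¹ := by group
      rw [e]
      exact Subgroup.inv_mem _ ha
  rw [Subgroup.mem_normalizer_iff]
  intro x
  constructor
  · exact key g hg x
  · intro hx
    have h1 := key g⁻¹ (Subgroup.inv_mem _ hg) _ hx
    have e : g⁻¹ * (g * x * g⁻¹) * g⁻¹⁻¹ = x := by group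
    rwa [e] at h1

/-- `O3 F` for `F ≅ S₃`: order 3 and index 2. -/
theorem O3_card {M : Type*} [Group M] (F : Subgroup M) (e : ↥F ≃* Equiv.Perm (Fin 3)) :
    Nat.card (O3 F) = 3 ∧ (O3 F).relIndex F = 2 := by
  have hA : O3 F = ((Equiv.Perm.sign.comp e.toMonoidHom).ker).map F.subtype := by
    apply le_antisymm
    · unfold O3
      rw [Subgroup.closure_le]
      rintro x ⟨hxF, hx3⟩
      refine ⟨⟨x, hxF⟩, ?_, rfl⟩
      rw [SetLike.mem_coe, MonoidHom.mem_ker, MonoidHom.comp_apply]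
      apply perm3_sign_of_cube
      have h1 : (⟨x, hxF⟩ : ↥F) ^ 3 = 1 := Subtype.ext (by rw [Subgroup.coe_pow]; exact hx3)
      have h2 : (e ⟨x, hxF⟩) ^ 3 = 1 := by rw [← map_pow, h1, map_one]
      exact h2
    · rintro _ ⟨y, hy, rfl⟩
      rw [SetLike.mem_coe, MonoidHom.mem_ker, MonoidHom.comp_apply] at hy
      have h1 : (e y) ^ 3 = 1 := perm3_cube _ hy
      have h2 : y ^ 3 = 1 := by
        apply e.injective
        rw [map_pow, map_one]
        exact h1
      apply Subgroup.subset_closure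
      refine ⟨y.2, ?_⟩
      have := congrArg Subtype.val h2
      simpa using this
  have hidx : ((Equiv.Perm.sign.comp e.toMonoidHom).ker).index = 2 := by
    rw [Subgroup.index_ker]
    have hsurj : Function.Surjective (Equiv.Perm.sign.comp e.toMonoidHom) := by
      intro u
      obtain ⟨σ, hσ⟩ := Equiv.Perm.sign_surjective (Fin 3) u
      exact ⟨e.symm σ, by simp [hσ]⟩
    rw [MonoidHom.range_eq_top.mpr hsurj]
    rw [Nat.card_congr (Subgroup.topEquiv (G := ℤˣ)).toEquiv]
    simp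
  have hF : Nat.card ↥F = 6 := by
    rw [Nat.card_congr e.toEquiv, Nat.card_perm]
    simp
    rfl
  have hcard : Nat.card ((Equiv.Perm.sign.comp e.toMonoidHom).ker) = 3 := by
    have := Subgroup.card_mul_index ((Equiv.Perm.sign.comp e.toMonoidHom).ker)
    rw [hidx, hF] at this
    omega
  constructor
  · rw [hA, Subgroup.card_map_of_injective F.subtype_injective]
    exact hcard
  · rw [hA]
    unfold Subgroup.relIndex Subgroup.subgroupOf
    rw [Subgroup.comap_map_eq_self_of_injective F.subtype_injective]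
    exact hidx

section X

variable {X : Type*} [Group X] [Finite X]

/-- the image of `J(X)` in the holomorph of `V`. -/
abbrev HJ (V : Subgroup X) [V.Normal] : Subgroup (Hol V) := (thompsonSubgroup 2 X).map (psi V)

/-- the index type of the `S₃`-factors of `HJ V`. -/
abbrev Idx (V : Subgroup X) [V.Normal] : Type _ :=
  {E : Subgroup (Hol V) // ∃ a, IsTransv 2 (VV V) (HJ V) a ∧ E = EE (FF.coreOf 2 (HJ V)) a}

/-- The structure of `HJ V`: the family of its `S₃`-factors. -/
theorem hol_family (V : Subgroup X) [V.Normal] (hV : IsElementaryAbelian 2 V)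
    (hsol : IsPSolvable 2 X) (hOp : pCore 2 ↥(psi V).range = ⊥) (hH1 : HJ V ≠ ⊥) :
    (∀ i : Idx V, HJ V ≤ Subgroup.normalizer ((i.1 : Subgroup (Hol V)) : Set (Hol V)) ∧
      Nonempty (↥i.1 ≃* Equiv.Perm (Fin 3)) ∧ Nat.card ↥(⁅VV V, i.1⁆) = 4) ∧
    iSupIndep (fun i : Idx V => i.1) ∧ (⨆ i : Idx V, i.1) = HJ V ∧
    iSupIndep (fun o : Option (Idx V) =>
      o.elim (VV V ⊓ Subgroup.centralizer (HJ V : Set (Hol V))) (fun i => ⁅VV V, i.1⁆)) ∧
    (VV V ⊓ Subgroup.centralizer (HJ V : Set (Hol V))) ⊔ (⨆ i : Idx V, ⁅VV V, i.1⁆) = VV V := by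
  haveI : Fact (Nat.Prime 2) := ⟨Nat.prime_two⟩
  haveI hYc : (thompsonSubgroup 2 X).Characteristic := (Cfsg.Agent.S0602.result (p := 2)).1
  haveI hYn : (thompsonSubgroup 2 X).Normal := Subgroup.normal_of_characteristic _
  obtain ⟨hs, hCK⟩ := setup_map_normal V hV hsol hOp (thompsonSubgroup 2 X)
  have hS3 : HJ V = ⨆ A : {A : Subgroup (Hol V) //
      A ≤ HJ V ∧ IsBestOffenderOn 2 (VV V) A}, (A : Subgroup (Hol V)) := by
    apply le_antisymm
    · show (thompsonSubgroup 2 X).map (psi V) ≤ _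
      rw [Subgroup.map_le_iff_le_comap]
      unfold Cfsg.thompsonSubgroup
      apply sSup_le
      intro A hA
      rw [← Subgroup.map_le_iff_le_comap]
      exact le_iSup (fun A : {A : Subgroup (Hol V) //
          A ≤ HJ V ∧ IsBestOffenderOn 2 (VV V) A} => (A : Subgroup (Hol V)))
        ⟨A.map (psi V), Subgroup.map_mono (Cfsg.Agent.Lib.Helper10.le_thompsonSubgroup hA),
          bestOffender_map V (Cfsg.Agent.Lib.Helper10.isBestOffenderOn_of_mem_max V A hV hA)⟩
    · exact iSup_le (fun A => A.2.1)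
  obtain ⟨-, hstr, hind, hsup, hind2, hsup2⟩ := structure_thm hs hCK hS3 hH1
    (ι := Idx V) (fun E => E.1) Subtype.val_injective (fun i => i.2)
    (fun a ha => ⟨⟨_, a, ha, rfl⟩, rfl⟩)
  have hSL : Nonempty (Matrix.SpecialLinearGroup (Fin 2) (ZMod 2) ≃* Equiv.Perm (Fin 3)) :=
    Cfsg.Agent.S0250.result (F := ZMod 2) (by rw [ZMod.card])
  obtain ⟨e0⟩ := hSL
  refine ⟨fun i => ⟨(hstr i).1, ?_, (hstr i).2.2⟩, hind, hsup, hind2, hsup2⟩
  obtain ⟨e1⟩ := (hstr i).2.1
  exact ⟨e1.trans e0⟩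

end X

end Cfsg.Agent.Lib.Helper11.KS12
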