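import Mathlib
import Cfsg.Agent.Lib.Helper11.KS12.FF1

/-!
Kurzweil–Stellmacher chapter 12 cluster, package P-FF, part FF1-D (helper11).

For `L ∈ jOvergroups T`, `C = C_L(V)`: subgroups `D_i` (`C ≤ D_i ≤ L`, `|D_i : C| = 3`,
normalized by `J(T)`) such that every `L`-conjugate of `J(T)` lies in `⟨D_i⟩ T`.
-/

set_option autoImplicit false

namespace Cfsg.Agent.Lib.Helper11.KS12

open scoped commutatorElement
open Cfsg Cfsg.Agent.Lib.Helper11 Cfsg.Agent.Lib.Helper11.FFT Cfsg.Agent.Lib.Helper11.FF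
  Cfsg.Agent.Lib.Helper11.TFS Cfsg.Agent.Lib.Helper2.KS12

section G

variable {G : Type*} [Group G] [Finite G]

/-- the preimage in `L ≤ G` of a subgroup of the holomorph of `V_L`. -/
def pre (L : Subgroup G) (B : Subgroup (Hol ((VL L).subgroupOf L))) : Subgroup G :=
  (B.comap (psi ((VL L).subgroupOf L))).map L.subtype

theorem pre_le (L : Subgroup G) (B : Subgroup (Hol ((VL L).subgroupOf L))) : pre L B ≤ L :=
  Subgroup.map_subtype_le _

theorem mem_pre {L : Subgroup G} {B : Subgroup (Hol ((VL L).subgroupOf L))} {x : G} :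
    x ∈ pre L B ↔ ∃ hx : x ∈ L, psi ((VL L).subgroupOf L) ⟨x, hx⟩ ∈ B := by
  constructor
  · rintro ⟨y, hy, rfl⟩
    exact ⟨y.2, hy⟩
  · rintro ⟨hx, h⟩
    exact ⟨⟨x, hx⟩, h, rfl⟩

theorem pre_mono (L : Subgroup G) {B B' : Subgroup (Hol ((VL L).subgroupOf L))} (h : B ≤ B') :
    pre L B ≤ pre L B' :=
  Subgroup.map_mono (Subgroup.comap_mono h)

theorem pre_bot (L : Subgroup G) : pre L ⊥ = CL L := by
  ext x
  rw [mem_pre]
  constructor
  · rintro ⟨hx, h⟩
    rw [Subgroup.mem_bot, ← MonoidHom.mem_ker, psi_ker] at h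
    exact (mem_centralizer_VL_subgroupOf ⟨x, hx⟩).mp h
  · intro h
    refine ⟨h.1, ?_⟩
    rw [Subgroup.mem_bot, ← MonoidHom.mem_ker, psi_ker]
    exact (mem_centralizer_VL_subgroupOf ⟨x, h.1⟩).mpr h

theorem CL_le_pre (L : Subgroup G) (B : Subgroup (Hol ((VL L).subgroupOf L))) :
    CL L ≤ pre L B := by
  rw [← pre_bot]
  exact pre_mono L bot_le

theorem pre_relIndex (L : Subgroup G) {A B : Subgroup (Hol ((VL L).subgroupOf L))}
    (hB : B ≤ (psi ((VL L).subgroupOf L)).range) :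
    (pre L A).relIndex (pre L B) = A.relIndex B := by
  unfold pre
  rw [Subgroup.relIndex_map_map_of_injective _ _ L.subtype_injective, Subgroup.relIndex_comap,
    Subgroup.map_comap_eq_self hB]

theorem CL_relIndex_pre (L : Subgroup G) {B : Subgroup (Hol ((VL L).subgroupOf L))}
    (hB : B ≤ (psi ((VL L).subgroupOf L)).range) : (CL L).relIndex (pre L B) = Nat.card B := by
  rw [← pre_bot, pre_relIndex L hB, Subgroup.relIndex_bot_left]

theorem pre_normalizer (L : Subgroup G) (B : Subgroup (Hol ((VL L).subgroupOf L))) {x : G}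
    (hx : x ∈ L)
    (h : psi ((VL L).subgroupOf L) ⟨x, hx⟩ ∈
      Subgroup.normalizer (B : Set (Hol ((VL L).subgroupOf L)))) :
    x ∈ Subgroup.normalizer (pre L B : Set G) := by
  have h1 : (⟨x, hx⟩ : ↥L) ∈ Subgroup.normalizer
      ((B.comap (psi ((VL L).subgroupOf L)) : Subgroup ↥L) : Set ↥L) :=
    Subgroup.le_normalizer_comap _ h
  exact Subgroup.le_normalizer_map L.subtype ⟨⟨x, hx⟩, h1, rfl⟩

/-- **FF1-D.** -/
theorem ff1_D (hN : ∀ N : Subgroup G, Cfsg.IsTwoLocal N → Group.IsSolvable ↥N)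
    (hZ : ∀ S : Sylow 2 G, Subgroup.centralizer (Cfsg.omegaCenterOf (S : Subgroup G) : Set G) ≤
      Subgroup.normalizer ((S : Subgroup G) : Set G))
    {T L : Subgroup G} (hT1 : T ≠ ⊥) (hLT : L ∈ jOvergroups T) :
    ∃ (n : ℕ) (D : Fin n → Subgroup G),
      (∀ i, CL L ≤ D i ∧ D i ≤ L ∧ (CL L).relIndex (D i) = 3 ∧
        thompsonSubgroupOf 2 T ≤ Subgroup.normalizer (D i : Set G)) ∧
      ∀ l ∈ L, (thompsonSubgroupOf 2 T).map (MulAut.conj l).toMonoidHom ≤ (⨆ i, D i) ⊔ T := by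
  haveI : Fact (Nat.Prime 2) := ⟨Nat.prime_two⟩
  have hnotle := thompson_not_le_CL hZ hLT
  obtain ⟨hT, -, hCQ⟩ := hLT
  haveI hsolL : Group.IsSolvable ↥L := isSolvable_of_mem_jOvergroups hN hT1 hCQ
  have hsol : IsPSolvable 2 ↥L := Cfsg.Agent.Lib.Helper79.isPSolvable_of_isSolvable 2 inferInstance
  have hV : IsElementaryAbelian 2 ((VL L).subgroupOf L) :=
    Cfsg.Agent.Lib.Helper10.isElementaryAbelian_subgroupOf (VL_elemAb L) L
  have hOp := pCore_range_eq_bot ((VL L).subgroupOf L)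
    (pCore_quotient_centralizer_VL_eq_bot hZ hT hCQ)
  have hJTL := thompsonSubgroupOf_le_of_isSylowTwoIn hT
  haveI hYc : (thompsonSubgroup 2 ↥L).Characteristic := (Cfsg.Agent.S0602.result (p := 2)).1
  haveI hYn : (thompsonSubgroup 2 ↥L).Normal := Subgroup.normal_of_characteristic _
  have hJL : thompsonSubgroupOf 2 L ≤ pre L (HJ ((VL L).subgroupOf L)) := by
    rintro _ ⟨y, hy, rfl⟩
    exact ⟨y, ⟨y, hy, rfl⟩, rfl⟩
  have hH1 : HJ ((VL L).subgroupOf L) ≠ ⊥ := by
    intro h0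
    apply hnotle
    refine hJTL.trans (hJL.trans ?_)
    rw [h0, pre_bot]
  obtain ⟨hstr, -, hsup, -, -⟩ := hol_family ((VL L).subgroupOf L) hV hsol hOp hH1
  have hFH : ∀ i : Idx ((VL L).subgroupOf L), i.1 ≤ HJ ((VL L).subgroupOf L) := by
    intro i
    exact (le_iSup (fun i : Idx ((VL L).subgroupOf L) => i.1) i).trans (le_of_eq hsup)
  have hHr : HJ ((VL L).subgroupOf L) ≤ (psi ((VL L).subgroupOf L)).range := by
    rintro _ ⟨y, -, rfl⟩
    exact ⟨y, rfl⟩
  have hN1n : L ≤ Subgroup.normalizer (pre L (HJ ((VL L).subgroupOf L)) : Set G) := by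
    intro l hl
    apply pre_normalizer L _ hl
    apply Cfsg.Agent.Lib.Helper85.KS12.mem_normalizer_of_conj_mem
    · rintro _ ⟨y, hy, rfl⟩
      refine ⟨⟨l, hl⟩ * y * ⟨l, hl⟩⁻¹, hYn.conj_mem y hy _, ?_⟩
      rw [map_mul, map_mul, map_inv]
    · rintro _ ⟨y, hy, rfl⟩
      refine ⟨⟨l, hl⟩⁻¹ * y * ⟨l, hl⟩, ?_, ?_⟩
      · have := hYn.conj_mem y hy ⟨l, hl⟩⁻¹
        simpa using this
      · rw [map_mul, map_mul, map_inv]
  have hS1 := isSylowTwoIn_inf_of_normal hT (pre_le L _) hN1n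
  have hD : ∀ i : Idx ((VL L).subgroupOf L),
      CL L ≤ pre L (O3 i.1) ∧ pre L (O3 i.1) ≤ L ∧ (CL L).relIndex (pre L (O3 i.1)) = 3 ∧
        thompsonSubgroupOf 2 T ≤ Subgroup.normalizer (pre L (O3 i.1) : Set G) ∧
        pre L i.1 ≤ pre L (O3 i.1) ⊔ T := by
    intro i
    obtain ⟨hin, ⟨e⟩, -⟩ := hstr i
    obtain ⟨hc3, hr2⟩ := O3_card i.1 e
    have hO3r : O3 i.1 ≤ (psi ((VL L).subgroupOf L)).range :=
      (O3_le i.1).trans ((hFH i).trans hHr)
    refine ⟨CL_le_pre L _, pre_le L _, ?_, ?_, ?_⟩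
    · rw [CL_relIndex_pre L hO3r, hc3]
    · intro x hx
      obtain ⟨y, hy, rfl⟩ := hJTL hx
      apply pre_normalizer L _ y.2
      apply O3_normalizer
      apply hin
      exact ⟨y, hy, rfl⟩
    · have hE_le : pre L i.1 ≤ pre L (HJ ((VL L).subgroupOf L)) := pre_mono L (hFH i)
      have hEn : pre L (HJ ((VL L).subgroupOf L)) ≤
          Subgroup.normalizer (pre L i.1 : Set G) := by
        intro x hx
        obtain ⟨hxL, hxH⟩ := mem_pre.mp hx
        exact pre_normalizer L _ hxL (hin hxH)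
      have hS2 := isSylowTwoIn_inf_of_normal hS1 hE_le hEn
      have hr : (pre L (O3 i.1)).relIndex (pre L i.1) = 2 := by
        rw [pre_relIndex L ((hFH i).trans hHr), hr2]
      have hM1 : (pre L (O3 i.1) ⊔ (pre L i.1 ⊓ (pre L (HJ ((VL L).subgroupOf L)) ⊓ T))).relIndex
          (pre L i.1) ∣ 2 := by
        have h0 := Subgroup.relIndex_dvd_of_le_left (pre L i.1)
          (le_sup_left : pre L (O3 i.1) ≤
            pre L (O3 i.1) ⊔ (pre L i.1 ⊓ (pre L (HJ ((VL L).subgroupOf L)) ⊓ T)))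
        rwa [hr] at h0
      have hM2 : (pre L (O3 i.1) ⊔ (pre L i.1 ⊓ (pre L (HJ ((VL L).subgroupOf L)) ⊓ T))).relIndex
          (pre L i.1) ∣ (pre L i.1 ⊓ (pre L (HJ ((VL L).subgroupOf L)) ⊓ T)).relIndex
            (pre L i.1) :=
        Subgroup.relIndex_dvd_of_le_left _ le_sup_right
      have hoddM := Odd.of_dvd_nat hS2.2.2 hM2
      have h1 : (pre L (O3 i.1) ⊔ (pre L i.1 ⊓ (pre L (HJ ((VL L).subgroupOf L)) ⊓ T))).relIndex
          (pre L i.1) = 1 := by
        rcases (Nat.dvd_prime Nat.prime_two).mp hM1 with h | h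
        · exact h
        · rw [h] at hoddM
          exact absurd hoddM (by decide)
      exact (Subgroup.relIndex_eq_one.mp h1).trans
        (sup_le_sup_left (inf_le_right.trans inf_le_right) _)
  -- `J(L) ≤ ⨆ E_i`
  obtain ⟨i0⟩ : Nonempty (Idx ((VL L).subgroupOf L)) := by
    by_contra hne
    rw [not_nonempty_iff] at hne
    apply hH1
    exact hsup.symm.trans (iSup_of_empty _)
  have hJLE : thompsonSubgroupOf 2 L ≤ ⨆ i : Idx ((VL L).subgroupOf L), pre L i.1 := by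
    have h1 : HJ ((VL L).subgroupOf L) ≤
        (⨆ i : Idx ((VL L).subgroupOf L), (i.1).comap (psi ((VL L).subgroupOf L))).map
          (psi ((VL L).subgroupOf L)) := by
      refine (le_of_eq hsup.symm).trans ?_
      apply iSup_le
      intro i
      have h2 : ((i.1).comap (psi ((VL L).subgroupOf L))).map (psi ((VL L).subgroupOf L)) = i.1 :=
        Subgroup.map_comap_eq_self ((hFH i).trans hHr)
      rw [← h2]
      exact Subgroup.map_mono (le_iSup (fun i : Idx ((VL L).subgroupOf L) =>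
        (i.1).comap (psi ((VL L).subgroupOf L))) i)
    have h3 : (⨆ i : Idx ((VL L).subgroupOf L), pre L i.1) =
        (⨆ i : Idx ((VL L).subgroupOf L), (i.1).comap (psi ((VL L).subgroupOf L))).map
          L.subtype := by
      rw [Subgroup.map_iSup]
      rfl
    rw [h3]
    rintro _ ⟨y, hy, rfl⟩
    obtain ⟨z, hz, hzy⟩ := h1 (show psi ((VL L).subgroupOf L) y ∈ HJ ((VL L).subgroupOf L) from
      ⟨y, hy, rfl⟩)
    refine ⟨y, ?_, rfl⟩
    have h4 : z⁻¹ * y ∈ (i0.1).comap (psi ((VL L).subgroupOf L)) := by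
      show psi ((VL L).subgroupOf L) (z⁻¹ * y) ∈ i0.1
      rw [map_mul, map_inv, hzy, inv_mul_cancel]
      exact Subgroup.one_mem _
    have h5 : y = z * (z⁻¹ * y) := by group
    rw [h5]
    exact Subgroup.mul_mem _ hz
      ((le_iSup (fun i : Idx ((VL L).subgroupOf L) =>
        (i.1).comap (psi ((VL L).subgroupOf L))) i0) h4)
  have hEDT : (⨆ i : Idx ((VL L).subgroupOf L), pre L i.1) ≤
      (⨆ i : Idx ((VL L).subgroupOf L), pre L (O3 i.1)) ⊔ T := by
    apply iSup_le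
    intro i
    exact (hD i).2.2.2.2.trans (sup_le_sup_right
      (le_iSup (fun i : Idx ((VL L).subgroupOf L) => pre L (O3 i.1)) i) T)
  have hLJL : L ≤ Subgroup.normalizer (thompsonSubgroupOf 2 L : Set G) :=
    Subgroup.le_normalizer.trans (normalizer_le_normalizer_thompsonSubgroupOf 2 L)
  refine ⟨Nat.card (Idx ((VL L).subgroupOf L)),
    fun k => pre L (O3 ((Finite.equivFin (Idx ((VL L).subgroupOf L))).symm k).1), ?_, ?_⟩
  · intro k
    obtain ⟨h1, h2, h3, h4, -⟩ := hD ((Finite.equivFin (Idx ((VL L).subgroupOf L))).symm k)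
    exact ⟨h1, h2, h3, h4⟩
  · intro l hl
    have h6 : (⨆ k, pre L (O3 ((Finite.equivFin (Idx ((VL L).subgroupOf L))).symm k).1)) =
        ⨆ i : Idx ((VL L).subgroupOf L), pre L (O3 i.1) :=
      Equiv.iSup_comp (g := fun i : Idx ((VL L).subgroupOf L) => pre L (O3 i.1))
        (Finite.equivFin (Idx ((VL L).subgroupOf L))).symm
    rw [h6]
    rintro _ ⟨x, hx, rfl⟩
    apply hEDT
    apply hJLE
    exact (Subgroup.mem_normalizer_iff.mp (hLJL hl) x).mp (hJTL hx)

end G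

end Cfsg.Agent.Lib.Helper11.KS12
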