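import Mathlib
import Cfsg.Agent.Lib.Helper11.KS12.FF1D
import Cfsg.Agent.Lib.Helper25.KS12.FF2Core
import Cfsg.Agent.Lib.Helper15.KS12.FourGroup
import Cfsg.Agent.Lib.Helper85.KS12.GenFrattini
import Cfsg.Agent.Lib.Helper2.KS12.PZ4
import Cfsg.Agent.Lib.Helper53.PGroups

/-!
Kurzweil–Stellmacher chapter 12 cluster, package P-FF, parts FF2 (existence of a
`J(T)`-component) and FF3 (generation) in closed form (helper11), assembled from
`ff1_D` (helper11), `exists_jComponent_core` (helper25), `card_wOf_eq_four` (helper15),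
`genByJComponents_of_conj` (helper85) and P-Z (helper2).
-/

set_option autoImplicit false

namespace Cfsg.Agent.Lib.Helper11.KS12

open scoped commutatorElement
open Cfsg Cfsg.Agent.Lib.Helper11 Cfsg.Agent.Lib.Helper2.KS12

section G

variable {G : Type*} [Group G] [Finite G]

theorem conj_mem_of_sup {A B H : Subgroup G} {g : G} (hA : ∀ a ∈ A, g * a * g⁻¹ ∈ H)
    (hB : ∀ b ∈ B, g * b * g⁻¹ ∈ H) : ∀ x ∈ A ⊔ B, g * x * g⁻¹ ∈ H := by
  intro x hx
  have h1 : (A ⊔ B).map (MulAut.conj g).toMonoidHom ≤ H := by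
    rw [Subgroup.map_sup]
    apply sup_le
    · rintro _ ⟨a, ha, rfl⟩
      exact hA a ha
    · rintro _ ⟨b, hb, rfl⟩
      exact hB b hb
  exact h1 ⟨x, hx, rfl⟩

/-- The "bad factor" lemma: a subgroup `D ≤ L` with `[D, J(T)] ≤ C_L(V)` normalizes `J(T)`. -/
theorem le_normalizer_thompson_of_comm_le
    (hZ : ∀ S : Sylow 2 G, Subgroup.centralizer (Cfsg.omegaCenterOf (S : Subgroup G) : Set G) ≤
      Subgroup.normalizer ((S : Subgroup G) : Set G))
    {T L : Subgroup G} (hT : IsSylowTwoIn T L)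
    (hCQ : Subgroup.centralizer (pCoreOf 2 L : Set G) ≤ pCoreOf 2 L)
    {D : Subgroup G} (hDL : D ≤ L) (hDJ : ⁅D, thompsonSubgroupOf 2 T⁆ ≤ CL L) :
    D ≤ Subgroup.normalizer (thompsonSubgroupOf 2 T : Set G) := by
  haveI : Fact (Nat.Prime 2) := ⟨Nat.prime_two⟩
  have hJT : thompsonSubgroupOf 2 T ≤ T := thompsonSubgroupOf_le 2 T
  have hQT : pCoreOf 2 L ≤ T := pCoreOf_le_of_isSylowTwoIn hT
  have hLQ : L ≤ Subgroup.normalizer (pCoreOf 2 L : Set G) :=
    Cfsg.Agent.Lib.Helper47.le_normalizer_pCoreOf 2 L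
  have hPT : thompsonSubgroupOf 2 T ⊔ pCoreOf 2 L ≤ T := sup_le hJT hQT
  have hP2 : IsPGroup 2 ↥(thompsonSubgroupOf 2 T ⊔ pCoreOf 2 L) := hT.2.1.to_le hPT
  have hconjQ : ∀ l ∈ L, ∀ q ∈ pCoreOf 2 L, l * q * l⁻¹ ∈ pCoreOf 2 L := fun l hl q hq =>
    (Subgroup.mem_normalizer_iff.mp (hLQ hl) q).mp hq
  -- `C` normalizes `J Q`
  have hCP : CL L ≤ Subgroup.normalizer
      ((thompsonSubgroupOf 2 T ⊔ pCoreOf 2 L : Subgroup G) : Set G) := by
    apply Cfsg.Agent.Lib.Helper53.le_normalizer_of_conj_mem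
    intro c hc
    apply conj_mem_of_sup
    · intro j hj
      have h1 : ⁅c, j⁆ ∈ pCoreOf 2 L :=
        comm_CL_le hZ hT hCQ (Subgroup.commutator_mem_commutator hc (hJT hj))
      have e : c * j * c⁻¹ = ⁅c, j⁆ * j := by rw [commutatorElement_def]; group
      rw [e]
      exact Subgroup.mul_mem _ ((le_sup_right : pCoreOf 2 L ≤ _) h1)
        ((le_sup_left : thompsonSubgroupOf 2 T ≤ _) hj)
    · intro q hq
      exact (le_sup_right : pCoreOf 2 L ≤ _) (hconjQ c (CL_le L hc) q hq)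
  -- `D` normalizes `J Q`
  have hDP : D ≤ Subgroup.normalizer
      ((thompsonSubgroupOf 2 T ⊔ pCoreOf 2 L : Subgroup G) : Set G) := by
    apply Cfsg.Agent.Lib.Helper53.le_normalizer_of_conj_mem
    intro d hd
    apply conj_mem_of_sup
    · intro j hj
      have hc : ⁅d, j⁆ ∈ CL L := hDJ (Subgroup.commutator_mem_commutator hd hj)
      have e : d * j * d⁻¹ = ⁅d, j⁆ * j := by rw [commutatorElement_def]; group
      -- `x = d j d⁻¹` is a 2-element normalizing `J Q`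
      obtain ⟨k, hk⟩ := (hT.2.1.to_le hJT) ⟨j, hj⟩
      have hjk : j ^ 2 ^ k = 1 := by
        have := congrArg Subtype.val hk
        simpa using this
      have hxk : (d * j * d⁻¹) ^ 2 ^ k = 1 := by
        rw [conj_pow, hjk, mul_one, mul_inv_cancel]
      have hx2 : IsPGroup 2 ↥(Subgroup.zpowers (d * j * d⁻¹)) := by
        obtain ⟨m, -, hm⟩ := (Nat.dvd_prime_pow Nat.prime_two).mp (orderOf_dvd_of_pow_eq_one hxk)
        apply IsPGroup.of_card (n := m)
        rw [Nat.card_zpowers, hm]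
      have hxN : d * j * d⁻¹ ∈ Subgroup.normalizer
          ((thompsonSubgroupOf 2 T ⊔ pCoreOf 2 L : Subgroup G) : Set G) := by
        rw [e]
        exact Subgroup.mul_mem _ (hCP hc)
          (Subgroup.le_normalizer ((le_sup_left : thompsonSubgroupOf 2 T ≤ _) hj))
      have hP' : IsPGroup 2 ↥(Subgroup.zpowers (d * j * d⁻¹) ⊔
          (thompsonSubgroupOf 2 T ⊔ pCoreOf 2 L) : Subgroup G) :=
        IsPGroup.to_sup_of_normal_right' hx2 hP2 (Subgroup.zpowers_le.mpr hxN)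
      have hcP' : ⁅d, j⁆ ∈ Subgroup.zpowers (d * j * d⁻¹) ⊔
          (thompsonSubgroupOf 2 T ⊔ pCoreOf 2 L) := by
        have e2 : ⁅d, j⁆ = (d * j * d⁻¹) * j⁻¹ := by rw [commutatorElement_def]
        rw [e2]
        exact Subgroup.mul_mem _ ((le_sup_left : Subgroup.zpowers (d * j * d⁻¹) ≤ _)
          (Subgroup.mem_zpowers _))
          (Subgroup.inv_mem _ ((le_sup_right : thompsonSubgroupOf 2 T ⊔ pCoreOf 2 L ≤ _)
            ((le_sup_left : thompsonSubgroupOf 2 T ≤ _) hj)))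
      have hcQ : ⁅d, j⁆ ∈ pCoreOf 2 L :=
        le_pCoreOf_of_le_CL hZ hT hCQ (hP'.to_le inf_le_left) inf_le_right ⟨hcP', hc⟩
      rw [e]
      exact Subgroup.mul_mem _ ((le_sup_right : pCoreOf 2 L ≤ _) hcQ)
        ((le_sup_left : thompsonSubgroupOf 2 T ≤ _) hj)
    · intro q hq
      exact (le_sup_right : pCoreOf 2 L ≤ _) (hconjQ d (hDL hd) q hq)
  have hJeq : thompsonSubgroupOf 2 (thompsonSubgroupOf 2 T ⊔ pCoreOf 2 L) =
      thompsonSubgroupOf 2 T :=
    thompsonSubgroupOf_eq_of_le hPT le_sup_left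
  have h1 := hDP.trans (normalizer_le_normalizer_thompsonSubgroupOf 2
    (thompsonSubgroupOf 2 T ⊔ pCoreOf 2 L))
  rwa [hJeq] at h1

/-- the instance of helper25's construction for `R = O₂(L)`, `C = C_L(V)`. -/
theorem exists_jComponent_of_D
    (hZ : ∀ S : Sylow 2 G, Subgroup.centralizer (Cfsg.omegaCenterOf (S : Subgroup G) : Set G) ≤
      Subgroup.normalizer ((S : Subgroup G) : Set G))
    {T L : Subgroup G} (hT : IsSylowTwoIn T L)
    (hCQ : Subgroup.centralizer (pCoreOf 2 L : Set G) ≤ pCoreOf 2 L)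
    {D : Subgroup G} (hCD : CL L ≤ D) (hDL : D ≤ L) (hDC : (CL L).relIndex D = 3)
    (hJD : thompsonSubgroupOf 2 T ≤ Subgroup.normalizer (D : Set G))
    (hJDC : ¬ ⁅D, thompsonSubgroupOf 2 T⁆ ≤ CL L) :
    ∃ K : Subgroup G, IsJComponent T K ∧ K ≤ D ∧ K ⊔ CL L = D := by
  obtain ⟨K, hK, hKD, hKC, -, -⟩ := Cfsg.Agent.Lib.Helper25.KS12.exists_jComponent_core T L
    (pCoreOf 2 L) (CL L) D hT (pCoreOf_le_of_isSylowTwoIn hT)
    (Cfsg.Agent.Lib.Helper47.le_normalizer_pCoreOf 2 L) (pCoreOf_le_CL L) hCD hDL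
    (le_normalizer_CL L) (isSylowTwoIn_pCoreOf_CL hZ hT hCQ).2.2 (comm_CL_le hZ hT hCQ)
    (fun x hx hc => ⟨hDL hx, hc⟩) hDC hJD hJDC
    (fun K h1 h2 h3 hWT hW => Cfsg.Agent.Lib.Helper15.KS12.card_wOf_eq_four T K h1 h2 h3 hWT hW)
  exact ⟨K, hK, hKD, hKC⟩

/-- **FF3 (closed).** `L ∈ jOvergroups T` is generated by its `J(T)`-components and
`N_L(J(T))`. -/
theorem genByJComponents (hN : ∀ N : Subgroup G, Cfsg.IsTwoLocal N → Group.IsSolvable ↥N)
    (hZ : ∀ S : Sylow 2 G, Subgroup.centralizer (Cfsg.omegaCenterOf (S : Subgroup G) : Set G) ≤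
      Subgroup.normalizer ((S : Subgroup G) : Set G))
    {T L : Subgroup G} (hT1 : T ≠ ⊥) (hLT : L ∈ jOvergroups T) :
    Cfsg.Agent.Lib.Helper85.KS12.GenByJComponents T L := by
  obtain ⟨n, D, hD, hconj⟩ := ff1_D hN hZ hT1 hLT
  obtain ⟨hT, -, hCQ⟩ := hLT
  have hCN : CL L ≤ L ⊓ Subgroup.normalizer (thompsonSubgroupOf 2 T : Set G) :=
    le_inf (CL_le L) (CL_le_normalizer_thompson hZ hT hCQ)
  have hTN : T ≤ L ⊓ Subgroup.normalizer (thompsonSubgroupOf 2 T : Set G) :=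
    le_inf hT.1 (Subgroup.le_normalizer.trans (normalizer_le_normalizer_thompsonSubgroupOf 2 T))
  apply Cfsg.Agent.Lib.Helper85.KS12.genByJComponents_of_conj hT le_rfl
  intro l hl
  refine (hconj l hl).trans (sup_le (iSup_le fun i => ?_) (hTN.trans le_sup_right))
  obtain ⟨hCD, hDL, hDC, hJD⟩ := hD i
  by_cases hbad : ⁅D i, thompsonSubgroupOf 2 T⁆ ≤ CL L
  · exact (le_inf hDL (le_normalizer_thompson_of_comm_le hZ hT hCQ hDL hbad)).trans le_sup_right
  · obtain ⟨K, hK, hKD, hKC⟩ := exists_jComponent_of_D hZ hT hCQ hCD hDL hDC hJD hbad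
    rw [← hKC]
    exact sup_le_sup (le_sSup ⟨hK, hKD.trans hDL⟩) hCN

/-- **FF2 (closed).** Every `L ∈ jOvergroups T` contains a `J(T)`-component. -/
theorem exists_jComponent (hN : ∀ N : Subgroup G, Cfsg.IsTwoLocal N → Group.IsSolvable ↥N)
    (hZ : ∀ S : Sylow 2 G, Subgroup.centralizer (Cfsg.omegaCenterOf (S : Subgroup G) : Set G) ≤
      Subgroup.normalizer ((S : Subgroup G) : Set G))
    {T L : Subgroup G} (hT1 : T ≠ ⊥) (hLT : L ∈ jOvergroups T) :
    ∃ K : Subgroup G, IsJComponent T K ∧ K ≤ L := by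
  obtain ⟨n, D, hD, hconj⟩ := ff1_D hN hZ hT1 hLT
  have hnotle := thompson_not_le_CL hZ hLT
  obtain ⟨hT, hJQ, hCQ⟩ := hLT
  by_contra hcon
  push Not at hcon
  -- every factor is bad, so `J(T)` is normal in `L`
  have hall : ∀ i, D i ≤ L ⊓ Subgroup.normalizer (thompsonSubgroupOf 2 T : Set G) := by
    intro i
    obtain ⟨hCD, hDL, hDC, hJD⟩ := hD i
    by_cases hbad : ⁅D i, thompsonSubgroupOf 2 T⁆ ≤ CL L
    · exact le_inf hDL (le_normalizer_thompson_of_comm_le hZ hT hCQ hDL hbad)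
    · obtain ⟨K, hK, hKD, -⟩ := exists_jComponent_of_D hZ hT hCQ hCD hDL hDC hJD hbad
      exact absurd (hKD.trans hDL) (hcon K hK)
  have hTN : T ≤ L ⊓ Subgroup.normalizer (thompsonSubgroupOf 2 T : Set G) :=
    le_inf hT.1 (Subgroup.le_normalizer.trans (normalizer_le_normalizer_thompsonSubgroupOf 2 T))
  have hgen := Cfsg.Agent.Lib.Helper85.KS12.genByJComponents_of_conj (T := T) (L := L) hT le_rfl
    (fun l hl => (hconj l hl).trans ((sup_le (iSup_le hall) hTN).trans le_sup_right))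
  have hS : sSup {K : Subgroup G | IsJComponent T K ∧ K ≤ L} = ⊥ := by
    rw [eq_bot_iff]
    apply sSup_le
    rintro K ⟨hK, hKL⟩
    exact absurd hKL (hcon K hK)
  unfold Cfsg.Agent.Lib.Helper85.KS12.GenByJComponents at hgen
  rw [hS, bot_sup_eq] at hgen
  -- `J(T)` is a normal 2-subgroup of `L`, so it lies in `O₂(L)`
  haveI : Fact (Nat.Prime 2) := ⟨Nat.prime_two⟩
  apply hJQ
  exact Cfsg.Agent.Lib.Helper47.le_pCoreOf_of_le_normalizer
    (hT.2.1.to_le (thompsonSubgroupOf_le 2 T)) ((thompsonSubgroupOf_le 2 T).trans hT.1)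
    (hgen.trans inf_le_right)

end G

end Cfsg.Agent.Lib.Helper11.KS12
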