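import Mathlib
import Cfsg.Agent.Lib.Helper11.KS12.Gen
import Cfsg.Agent.Lib.Helper85.KS12.HCommClosed
import Cfsg.Agent.Lib.Helper71.JC.JCInst
import Cfsg.Agent.Lib.Helper67.KS12.S2942Core

/-!
Kurzweil–Stellmacher chapter 12 cluster (helper11): for `L ∈ jOvergroups T`,
* two `J(T)`-components of `L` normalize each other (`jcomp_normalizes`),
* `L` permutes its `J(T)`-components by conjugation (`jcomp_conj_of_mem`),
* `L ∩ N_G(W_K) ≤ N_G(K)` for a `J(T)`-component `K ≤ L` (`inf_normalizer_wOf_le`).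
-/

set_option autoImplicit false

namespace Cfsg.Agent.Lib.Helper11.KS12

open scoped commutatorElement
open Cfsg Cfsg.Agent.Lib.Helper11 Cfsg.Agent.Lib.Helper2.KS12

section Pure

variable {G : Type*} [Group G]

/-- In a group: `J` commutes with `K` and with `[D, K]`, inverts `D`, `D³ = 1` ⟹ `D` commutes
with `K`. -/
theorem comm_of_inverted {H : Type*} [Group H] (J D K : H) (h1 : J * K = K * J)
    (h2 : J * D * J⁻¹ = D⁻¹) (h3 : D ^ 3 = 1)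
    (h4 : J * (D * K * D⁻¹ * K⁻¹) = (D * K * D⁻¹ * K⁻¹) * J) : D * K * D⁻¹ * K⁻¹ = 1 := by
  have hK : J * K * J⁻¹ = K := by rw [h1]; group
  have e1 : J * (D * K * D⁻¹ * K⁻¹) * J⁻¹ = D⁻¹ * K * D * K⁻¹ := by
    calc J * (D * K * D⁻¹ * K⁻¹) * J⁻¹
        = (J * D * J⁻¹) * (J * K * J⁻¹) * (J * D * J⁻¹)⁻¹ * (J * K * J⁻¹)⁻¹ := by group
      _ = D⁻¹ * K * D * K⁻¹ := by rw [h2, hK]; group
  have e2 : J * (D * K * D⁻¹ * K⁻¹) * J⁻¹ = D * K * D⁻¹ * K⁻¹ := by rw [h4]; group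
  have e3 : D⁻¹ * K * D = D * K * D⁻¹ := by
    have := e1.symm.trans e2
    exact mul_right_cancel this
  have hD : D⁻¹ = D ^ 2 := by
    have : D ^ 2 * D = 1 := by rw [← pow_succ]; exact h3
    exact (eq_inv_of_mul_eq_one_left this).symm
  -- D² K = K D²
  have e4 : D ^ 2 * K = K * D ^ 2 := by
    have : D * (D⁻¹ * K * D) * D = D * (D * K * D⁻¹) * D := by rw [e3]
    have l : D * (D⁻¹ * K * D) * D = K * D ^ 2 := by rw [pow_two]; group
    have r : D * (D * K * D⁻¹) * D = D ^ 2 * K := by rw [pow_two]; group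
    rw [l, r] at this
    exact this.symm
  have e5 : D⁻¹ * K = K * D⁻¹ := by rw [hD]; exact e4
  calc D * K * D⁻¹ * K⁻¹ = D * (K * D⁻¹) * K⁻¹ := by group
    _ = D * (D⁻¹ * K) * K⁻¹ := by rw [e5]
    _ = 1 := by group

/-- Trichotomy in a quotient of order 3. -/
theorem three_cases {R K : Subgroup G} (hRK : R ≤ K) (hKR : K ≤ Subgroup.normalizer (R : Set G))
    (hidx : R.relIndex K = 3) {d : G} (hd : d ∈ K) (hdR : d ∉ R) {e : G} (he : e ∈ K) :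
    e ∈ R ∨ e * d⁻¹ ∈ R ∨ e * d ∈ R := by
  obtain ⟨h3, hall⟩ := Cfsg.Agent.Lib.Helper71.JC.q3 hRK hKR hidx hd hdR
  obtain ⟨i, r, hr, rfl⟩ := hall e he
  have hconj : ∀ x ∈ R, d * x * d⁻¹ ∈ R := fun x hx =>
    (Subgroup.mem_normalizer_iff.mp (hKR hd) x).mp hx
  have hconj' : ∀ x ∈ R, d⁻¹ * x * d ∈ R := fun x hx => by
    have := (Subgroup.mem_normalizer_iff.mp (hKR (K.inv_mem hd)) x).mp hx
    simpa using this
  have hi : d ^ i = (d ^ 3) ^ (i / 3) * d ^ (i % 3) := by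
    rw [← pow_mul, ← pow_add, Nat.div_add_mod]
  have hq : (d ^ 3) ^ (i / 3) ∈ R := R.pow_mem h3 _
  have hlt : i % 3 < 3 := Nat.mod_lt _ (by norm_num)
  rw [hi]
  interval_cases h : i % 3
  · left
    simpa using R.mul_mem hq hr
  · right; left
    have : (d ^ 3) ^ (i / 3) * d ^ 1 * r * d⁻¹ = (d ^ 3) ^ (i / 3) * (d * r * d⁻¹) := by group
    rw [this]
    exact R.mul_mem hq (hconj r hr)
  · right; right
    have : (d ^ 3) ^ (i / 3) * d ^ 2 * r * d = (d ^ 3) ^ (i / 3) * d ^ 3 * (d⁻¹ * r * d) := by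
      group
    rw [this]
    exact R.mul_mem (R.mul_mem hq h3) (hconj' r hr)

open Cfsg.Agent.Lib.Helper71.JC in
/-- Separation: for a largest elementary abelian subgroup `A` of `T` normalizing two independent,
commuting four-groups `W₁, W₂ ≤ T` and not centralizing `W₂`, some element of `A` centralizes
`W₁` but not `W₂`. -/
theorem exists_sep [Finite G] {T A W₁ W₂ : Subgroup G}
    (hA : A ∈ maxElemAbIn 2 T) (hW₁T : W₁ ≤ T) (hW₂T : W₂ ≤ T)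
    (hW₁4 : Nat.card W₁ = 4) (hW₁2 : ∀ w ∈ W₁, w * w = 1)
    (hW₂2 : ∀ w ∈ W₂, w * w = 1)
    (hW₁c : ∀ w ∈ W₁, ∀ w' ∈ W₁, w * w' = w' * w)
    (hW₂c : ∀ w ∈ W₂, ∀ w' ∈ W₂, w * w' = w' * w)
    (hWW : ∀ a ∈ W₁, ∀ b ∈ W₂, a * b = b * a) (hdisj : W₁ ⊓ W₂ = ⊥)
    (hAN₁ : A ≤ Subgroup.normalizer (W₁ : Set G)) (hAN₂ : A ≤ Subgroup.normalizer (W₂ : Set G))
    (hA₂ : ¬ A ≤ Subgroup.centralizer (W₂ : Set G)) :
    ∃ a ∈ A, (∀ w ∈ W₁, a * w * a⁻¹ = w) ∧ ¬ ∀ w ∈ W₂, a * w * a⁻¹ = w := by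
  by_contra hcon
  have hcon' : ∀ a ∈ A, (∀ w ∈ W₁, a * w * a⁻¹ = w) → ∀ w ∈ W₂, a * w * a⁻¹ = w := by
    intro a ha h1
    by_contra h2
    exact hcon ⟨a, ha, h1, h2⟩
  obtain ⟨a, haA, haW₂⟩ := SetLike.not_le_iff_exists.mp hA₂
  have ha₂ : ¬ ∀ w ∈ W₂, a * w * a⁻¹ = w := by
    intro h; apply haW₂; rw [Subgroup.mem_centralizer_iff]; intro w hw
    exact conj_eq_iff_comm.mp (h w hw)
  have ha₁ : ¬ ∀ w ∈ W₁, a * w * a⁻¹ = w := fun h => ha₂ (hcon' a haA h)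
  obtain ⟨w₁, hw₁, hw₁a⟩ := not_forall₂.mp ha₁
  obtain ⟨w₂, hw₂, hw₂a⟩ := not_forall₂.mp ha₂
  have hAc : ∀ x ∈ A, ∀ y ∈ A, x * y = y * x := by
    intro x hx y hy
    have := hA.2.1.1
    exact setLike_mul_comm hx hy
  have hAsq : ∀ x ∈ A, x * x = 1 := by
    intro x hx
    have := hA.2.1.2 x hx
    rwa [pow_two] at this
  set A₁ : Subgroup G := A ⊓ Subgroup.centralizer (W₁ : Set G) with hA₁
  have hcent : ∀ b ∈ A, (∀ w ∈ W₁, b * w * b⁻¹ = w) → b ∈ A₁ := by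
    intro b hb h
    refine Subgroup.mem_inf.mpr ⟨hb, ?_⟩
    rw [Subgroup.mem_centralizer_iff]; intro w hw
    exact conj_eq_iff_comm.mp (h w hw)
  have hcent' : ∀ b ∈ A₁, ∀ w ∈ W₁, b * w * b⁻¹ = w := by
    intro b hb w hw
    exact conj_eq_iff_comm.mpr (Subgroup.mem_centralizer_iff.mp (Subgroup.mem_inf.mp hb).2 w hw)
  have haA₁ : a ∉ A₁ := fun h => ha₁ (hcent' a h)
  have hidx : A₁.relIndex A = 2 := by
    rw [Subgroup.relIndex_eq_two_iff]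
    refine ⟨a, haA, fun b hb => ?_⟩
    by_cases hbA₁ : b ∈ A₁
    · right
      refine ⟨hbA₁, fun h => haA₁ ?_⟩
      have : a = b⁻¹ * (b * a) := by group
      rw [this]
      exact A₁.mul_mem (A₁.inv_mem hbA₁) h
    · left
      refine ⟨?_, hbA₁⟩
      have hb₁ : ¬ ∀ w ∈ W₁, b * w * b⁻¹ = w := fun h => hbA₁ (hcent b hb h)
      have h2 := two_invol hW₁4 hW₁2 hW₁c (hAN₁ hb) (hAN₁ haA) (hAsq b hb) (hAsq a haA)
        (hAc b hb a haA) hb₁ ha₁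
      exact hcent (b * a) (A.mul_mem hb haA) h2
  have hcardA : Nat.card A = Nat.card A₁ * 2 := by
    have := card_mul_relIndex_of_le (inf_le_left : A₁ ≤ A)
    rw [hidx] at this; exact this.symm
  have hA₁el : IsElementaryAbelian 2 A₁ := elemAb_mono inf_le_left hA.2.1
  have hW₁el : IsElementaryAbelian 2 W₁ :=
    ⟨IsMulCommutative.of_setLike_mul_comm (fun a ha b hb => hW₁c a ha b hb),
      fun w hw => by rw [pow_two]; exact hW₁2 w hw⟩
  have hW₂el : IsElementaryAbelian 2 W₂ :=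
    ⟨IsMulCommutative.of_setLike_mul_comm (fun a ha b hb => hW₂c a ha b hb),
      fun w hw => by rw [pow_two]; exact hW₂2 w hw⟩
  have hWel : IsElementaryAbelian 2 (W₁ ⊔ W₂) := elemAb_sup hW₁el hW₂el hWW
  have hA₁W : ∀ b ∈ A₁, ∀ w ∈ W₁ ⊔ W₂, b * w = w * b := by
    intro b hb
    have h1 := hcent' b hb
    have h2 := hcon' b (Subgroup.mem_inf.mp hb).1 h1
    have hle : W₁ ⊔ W₂ ≤ Subgroup.centralizer ({b} : Set G) := by
      refine sup_le ?_ ?_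
      · intro w hw; rw [Subgroup.mem_centralizer_iff]; rintro _ rfl
        exact (conj_eq_iff_comm.mp (h1 w hw)).symm
      · intro w hw; rw [Subgroup.mem_centralizer_iff]; rintro _ rfl
        exact (conj_eq_iff_comm.mp (h2 w hw)).symm
    intro w hw
    exact Subgroup.mem_centralizer_iff.mp (hle hw) b rfl
  have hBel := elemAb_sup hA₁el hWel hA₁W
  have hBT : A₁ ⊔ (W₁ ⊔ W₂) ≤ T := sup_le (inf_le_left.trans hA.1) (sup_le hW₁T hW₂T)
  have hcardB : Nat.card (A₁ ⊔ (W₁ ⊔ W₂) : Subgroup G) ≤ Nat.card A := hA.2.2 _ hBT hBel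
  set B : Subgroup G := A₁ ⊔ (W₁ ⊔ W₂) with hB
  have hA₁B : A₁ ≤ B := le_sup_left
  have hw₁B : w₁ ∈ B := (le_sup_right : W₁ ⊔ W₂ ≤ B) ((le_sup_left : W₁ ≤ W₁ ⊔ W₂) hw₁)
  have hw₂B : w₂ ∈ B := (le_sup_right : W₁ ⊔ W₂ ≤ B) ((le_sup_right : W₂ ≤ W₁ ⊔ W₂) hw₂)
  have hnotA : ∀ x, a * x * a⁻¹ ≠ x → x ∉ A := fun x hx hxA =>
    hx (by rw [hAc a haA x hxA]; group)
  have hw₁A : w₁ ∉ A₁ := fun h => hnotA w₁ hw₁a (Subgroup.mem_inf.mp h).1
  have hw₂A : w₂ ∉ A₁ := fun h => hnotA w₂ hw₂a (Subgroup.mem_inf.mp h).1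
  have hw₁₂A : w₁ * w₂ ∉ A₁ := by
    intro h
    apply hnotA (w₁ * w₂) ?_ (Subgroup.mem_inf.mp h).1
    intro heq
    have h1 : a * w₁ * a⁻¹ ∈ W₁ := conj_mem_of_mem_normalizer (hAN₁ haA) hw₁
    have h2 : a * w₂ * a⁻¹ ∈ W₂ := conj_mem_of_mem_normalizer (hAN₂ haA) hw₂
    have h3 : w₁⁻¹ * (a * w₁ * a⁻¹) = w₂ * (a * w₂ * a⁻¹)⁻¹ := by
      have : (a * w₁ * a⁻¹) * (a * w₂ * a⁻¹) = w₁ * w₂ := by rw [← heq]; group
      calc w₁⁻¹ * (a * w₁ * a⁻¹)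
          = w₁⁻¹ * ((a * w₁ * a⁻¹) * (a * w₂ * a⁻¹)) * (a * w₂ * a⁻¹)⁻¹ := by group
        _ = w₁⁻¹ * (w₁ * w₂) * (a * w₂ * a⁻¹)⁻¹ := by rw [this]
        _ = w₂ * (a * w₂ * a⁻¹)⁻¹ := by group
    have h4 : w₁⁻¹ * (a * w₁ * a⁻¹) ∈ W₁ ⊓ W₂ :=
      ⟨W₁.mul_mem (W₁.inv_mem hw₁) h1, by rw [h3]; exact W₂.mul_mem hw₂ (W₂.inv_mem h2)⟩
    rw [hdisj, Subgroup.mem_bot] at h4
    exact hw₁a (inv_mul_eq_one.mp h4).symm
  have hcB := card_mul_relIndex_of_le hA₁B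
  have hBpos : 0 < Nat.card B := Nat.card_pos
  have hidxB : 3 ≤ A₁.relIndex B := by
    by_contra hlt
    have hlt' : A₁.relIndex B < 3 := Nat.lt_of_not_le hlt
    have h0 : A₁.relIndex B ≠ 0 := by
      intro h; rw [h, mul_zero] at hcB; omega
    have h1 : A₁.relIndex B ≠ 1 := by
      intro h; rw [Subgroup.relIndex_eq_one] at h; exact hw₁A (h hw₁B)
    have h2 : (A₁.subgroupOf B).index = 2 := by
      have : A₁.relIndex B = 2 := by omega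
      exact this
    have := Subgroup.mul_mem_iff_of_index_two h2 (a := (⟨w₁, hw₁B⟩ : B)) (b := ⟨w₂, hw₂B⟩)
    simp only [Subgroup.mem_subgroupOf] at this
    exact hw₁₂A (this.mpr ⟨fun h => absurd h hw₁A, fun h => absurd h hw₂A⟩)
  have hpos : 0 < Nat.card A₁ := Nat.card_pos
  have : Nat.card A₁ * 3 ≤ Nat.card A₁ * A₁.relIndex B := Nat.mul_le_mul_left _ hidxB
  omega

end Pure

section Quot

/-- `comm_of_inverted` modulo a normal subgroup. -/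
theorem comm_mem_of_inverted {H : Type*} [Group H] (N : Subgroup H) [N.Normal] (j d k : H)
    (h1 : j * k * j⁻¹ * k⁻¹ ∈ N) (h2 : j * d * j⁻¹ * d ∈ N) (h3 : d ^ 3 ∈ N)
    (h4 : (d * k * d⁻¹ * k⁻¹) * j * (d * k * d⁻¹ * k⁻¹)⁻¹ * j⁻¹ ∈ N) :
    d * k * d⁻¹ * k⁻¹ ∈ N := by
  rw [← QuotientGroup.eq_one_iff] at h1 h2 h3 h4 ⊢
  simp only [QuotientGroup.mk_mul, QuotientGroup.mk_inv, QuotientGroup.mk_pow] at h1 h2 h3 h4 ⊢
  apply comm_of_inverted (j : H ⧸ N) d k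
  · calc (j : H ⧸ N) * k = ((j : H ⧸ N) * k * (j : H ⧸ N)⁻¹ * (k : H ⧸ N)⁻¹) * (k * j) := by group
      _ = k * j := by rw [h1, one_mul]
  · exact eq_inv_of_mul_eq_one_left h2
  · exact h3
  · set X : H ⧸ N := (d : H ⧸ N) * k * (d : H ⧸ N)⁻¹ * (k : H ⧸ N)⁻¹ with hX
    calc (j : H ⧸ N) * X = (X * j * X⁻¹ * (j : H ⧸ N)⁻¹)⁻¹ * (X * j) := by group
      _ = X * j := by rw [h4, inv_one, one_mul]

end Quot

section Cfg

open Cfsg.Agent.Lib.Helper71.JC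

variable {G : Type*} [Group G]

/-- An element of `J` centralizing `W` centralizes `K` modulo `R`. -/
theorem cfg_comm_mem {K J R W S : Subgroup G} (c : Cfg K J R W S) {j : G} (hj : j ∈ J)
    (hjW : ∀ w ∈ W, j * w * j⁻¹ = w) : ∀ k ∈ K, j * k * j⁻¹ * k⁻¹ ∈ R := by
  intro k hk
  have hjk : j * k * j⁻¹ ∈ K := conj_mem_of_mem_normalizer (c.hJK hj) hk
  apply c.mem_R_of_centralizes (K.mul_mem hjk (K.inv_mem hk))
  intro w hw
  have h1 : k⁻¹ * w * k ∈ W := conj_inv_mem_of_mem_normalizer (c.hKW hk) hw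
  have h2 : j⁻¹ * (k⁻¹ * w * k) * j = k⁻¹ * w * k := by
    have := hjW _ h1
    calc j⁻¹ * (k⁻¹ * w * k) * j = j⁻¹ * (j * (k⁻¹ * w * k) * j⁻¹) * j := by rw [this]
      _ = k⁻¹ * w * k := by group
  calc j * k * j⁻¹ * k⁻¹ * w * (j * k * j⁻¹ * k⁻¹)⁻¹
      = j * (k * (j⁻¹ * (k⁻¹ * w * k) * j) * k⁻¹) * j⁻¹ := by group
    _ = j * (k * (k⁻¹ * w * k) * k⁻¹) * j⁻¹ := by rw [h2]
    _ = j * w * j⁻¹ := by group
    _ = w := hjW w hw

/-- An involution of `J` not centralizing `W` inverts `K` modulo `R`. -/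
theorem cfg_inv_mem {K J R W S : Subgroup G} (c : Cfg K J R W S) {j : G} (hj : j ∈ J)
    (hj2 : j * j = 1) (hjW : ¬ ∀ w ∈ W, j * w * j⁻¹ = w) : ∀ d ∈ K, j * d * j⁻¹ * d ∈ R := by
  intro d hd
  have hjd : j * d * j⁻¹ ∈ K := conj_mem_of_mem_normalizer (c.hJK hj) hd
  by_cases hdR : d ∈ R
  · exact R.mul_mem (conj_mem_of_mem_normalizer (c.hJR hj) hdR) hdR
  obtain ⟨u, hu, hu1, hufix, hfix, -⟩ := invol_struct c.hW4 c.hW2 c.Wcomm (c.hJW hj) hj2 hjW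
  rcases three_cases c.hRK c.hKR c.hidx hd hdR hjd with h | h | h
  · exfalso; apply hdR
    have e : d = j⁻¹ * (j * d * j⁻¹) * j⁻¹⁻¹ := by group
    rw [e]
    exact conj_mem_of_mem_normalizer (c.hJR (J.inv_mem hj)) h
  · exfalso
    have hdu : d * u * d⁻¹ ∈ W := conj_mem_of_mem_normalizer (c.hKW hd) hu
    have hfixdu : j * (d * u * d⁻¹) * j⁻¹ = d * u * d⁻¹ := by
      set r := j * d * j⁻¹ * d⁻¹ with hr
      have e1 : j * d * j⁻¹ = r * d := by rw [hr]; group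
      calc j * (d * u * d⁻¹) * j⁻¹ = (j * d * j⁻¹) * (j * u * j⁻¹) * (j * d * j⁻¹)⁻¹ := by group
        _ = (r * d) * u * (r * d)⁻¹ := by rw [hufix, e1]
        _ = r * (d * u * d⁻¹) * r⁻¹ := by group
        _ = (d * u * d⁻¹) * r * r⁻¹ := by rw [c.hWZ _ hdu r h]
        _ = d * u * d⁻¹ := by group
    rcases hfix _ hdu hfixdu with h1 | h1
    · apply hu1
      have e : u = d⁻¹ * (d * u * d⁻¹) * d := by group
      rw [e, h1]; group
    · exact hu1 (c.hfp d hd hdR u hu h1)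
  · exact h

end Cfg

section KN

open Cfsg.Agent.Lib.Helper71.JC

variable {G : Type*} [Group G] [Finite G]

theorem comm_le_of_le_normalizer {V K : Subgroup G}
    (h : K ≤ Subgroup.normalizer (V : Set G)) : ⁅V, K⁆ ≤ V := by
  rw [Subgroup.commutator_le]
  intro v hv k hk
  rw [commutatorElement_def]
  have h1 := conj_mem_of_mem_normalizer (h hk) (V.inv_mem hv)
  have e : v * k * v⁻¹ * k⁻¹ = v * (k * v⁻¹ * k⁻¹) := by group
  rw [e]; exact V.mul_mem hv h1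

/-- `W_K ≤ V_L` for a `J(T)`-component `K` of `L ∈ jOvergroups T`. -/
theorem wOf_le_VL (hN : ∀ N : Subgroup G, Cfsg.IsTwoLocal N → Group.IsSolvable ↥N)
    (hZ : ∀ S : Sylow 2 G, Subgroup.centralizer (Cfsg.omegaCenterOf (S : Subgroup G) : Set G) ≤
      Subgroup.normalizer ((S : Subgroup G) : Set G))
    {T L K : Subgroup G} (hT : IsPGroup 2 T) (hT1 : T ≠ ⊥) (hLT : L ∈ jOvergroups T)
    (hK : IsJComponent T K) (hKL : K ≤ L) : wOf K ≤ VL L := by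
  rw [Cfsg.Agent.Lib.Helper85.KS12.jComp_wOf_eq hN hZ T L hT hT1 hLT K hK hKL]
  exact comm_le_of_le_normalizer (hKL.trans (le_normalizer_VL L))

/-- `O₂(K) ≤ O₂(L)` for a `J(T)`-component `K` of `L ∈ jOvergroups T`. -/
theorem jcomp_pCoreOf_le (hN : ∀ N : Subgroup G, Cfsg.IsTwoLocal N → Group.IsSolvable ↥N)
    (hZ : ∀ S : Sylow 2 G, Subgroup.centralizer (Cfsg.omegaCenterOf (S : Subgroup G) : Set G) ≤
      Subgroup.normalizer ((S : Subgroup G) : Set G))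
    {T L K : Subgroup G} (hT1 : T ≠ ⊥) (hLT : L ∈ jOvergroups T)
    (hK : IsJComponent T K) (hKL : K ≤ L) : pCoreOf 2 K ≤ pCoreOf 2 L := by
  have : Fact (Nat.Prime 2) := ⟨Nat.prime_two⟩
  have hAb := jcomp_comm_le hN hZ hT1 hLT K K hK hK hKL hKL
  have h1 := Cfsg.Agent.Lib.Helper85.KS12.jcomp_pCoreOf_le_centralizer hK hKL
    (le_normalizer_VL L) hAb
  have h2 : pCoreOf 2 K ≤ CL L :=
    le_inf ((Cfsg.Agent.Lib.Helper47.pCoreOf_le 2 K).trans hKL) h1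
  exact le_pCoreOf_of_le_CL hZ hLT.1 hLT.2.2 (Cfsg.Agent.Lib.Helper47.pCoreOf_isPGroup 2 K) h2

/-- **(KN)** Two `J(T)`-components of `L ∈ jOvergroups T` normalize each other. -/
theorem jcomp_normalizes (hL : Cfsg.IsCharacteristicTwoType G)
    (hN : ∀ N : Subgroup G, Cfsg.IsTwoLocal N → Group.IsSolvable ↥N)
    (hZ : ∀ S : Sylow 2 G, Subgroup.centralizer (Cfsg.omegaCenterOf (S : Subgroup G) : Set G) ≤
      Subgroup.normalizer ((S : Subgroup G) : Set G))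
    {T L K₁ K₂ : Subgroup G} (hT : IsPGroup 2 T) (hT1 : T ≠ ⊥) (hLT : L ∈ jOvergroups T)
    (hK₁ : IsJComponent T K₁) (hK₂ : IsJComponent T K₂) (hK₁L : K₁ ≤ L) (hK₂L : K₂ ≤ L) :
    K₂ ≤ Subgroup.normalizer (K₁ : Set G) := by
  have : Fact (Nat.Prime 2) := ⟨Nat.prime_two⟩
  by_cases hne : K₁ = K₂
  · subst hne; exact Subgroup.le_normalizer
  have hTL := hLT.1
  have hCQ := hLT.2.2
  have c₁ := cfg_of_isJComponent hT hK₁
  have c₂ := cfg_of_isJComponent hT hK₂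
  have hW₁V := wOf_le_VL hN hZ hT hT1 hLT hK₁ hK₁L
  have hW₂V := wOf_le_VL hN hZ hT hT1 hLT hK₂ hK₂L
  have hVT : VL L ≤ T := VL_le_of_isSylowTwoIn hTL
  have hWW : ∀ a ∈ wOf K₁, ∀ b ∈ wOf K₂, a * b = b * a :=
    fun a ha b hb => omegaCenterOf_comm _ (hW₁V ha) (hW₂V hb)
  have hcent := Cfsg.Agent.Lib.Helper85.KS12.jComp_centralize_wOf hL hN hZ T L hT hT1 hLT
    K₁ K₂ hK₁ hK₂ hK₁L hK₂L hne
  have hdisj : wOf K₁ ⊓ wOf K₂ = ⊥ := by
    rw [Subgroup.eq_bot_iff_forall]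
    intro w hw
    obtain ⟨hw₁, hw₂⟩ := Subgroup.mem_inf.mp hw
    obtain ⟨d, hd, hdR⟩ := c₂.exists_d
    refine c₂.hfp d hd hdR w hw₂ ?_
    exact conj_eq_iff_comm.mpr (Subgroup.mem_centralizer_iff.mp (hcent hd) w hw₁)
  obtain ⟨A, hA, hAW₂⟩ : ∃ A ∈ maxElemAbIn 2 T,
      ¬ A ≤ Subgroup.centralizer (wOf K₂ : Set G) := by
    by_contra h
    apply c₂.J_not_centralizes
    rw [thompsonSubgroupOf_eq, sSup_le_iff]
    intro A hA
    by_contra hA'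
    exact h ⟨A, hA, hA'⟩
  have hAJ : A ≤ thompsonSubgroupOf 2 T := by
    rw [thompsonSubgroupOf_eq]; exact le_sSup hA
  obtain ⟨j, hjA, hj₁, hj₂⟩ := exists_sep hA (hW₁V.trans hVT) (hW₂V.trans hVT) c₁.hW4 c₁.hW2
    c₂.hW2 c₁.Wcomm c₂.Wcomm hWW hdisj (hAJ.trans c₁.hJW) (hAJ.trans c₂.hJW) hAW₂
  have hjJ : j ∈ thompsonSubgroupOf 2 T := hAJ hjA
  have hj2 : j * j = 1 := by
    have := hA.2.1.2 j hjA
    rwa [pow_two] at this
  have hc1 := cfg_comm_mem c₁ hjJ hj₁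
  have hc2 := cfg_inv_mem c₂ hjJ hj2 hj₂
  have hR₁Q := jcomp_pCoreOf_le hN hZ hT1 hLT hK₁ hK₁L
  have hR₂Q := jcomp_pCoreOf_le hN hZ hT1 hLT hK₂ hK₂L
  have hQL : pCoreOf 2 L ≤ L := Cfsg.Agent.Lib.Helper47.pCoreOf_le 2 L
  have hLQ : L ≤ Subgroup.normalizer (pCoreOf 2 L : Set G) :=
    Cfsg.Agent.Lib.Helper47.le_normalizer_pCoreOf 2 L
  have hjT : j ∈ T := thompsonSubgroupOf_le 2 T hjJ
  have hjL : j ∈ L := hTL.1 hjT
  have key : ∀ d ∈ K₂, ∀ k ∈ K₁, d * k * d⁻¹ * k⁻¹ ∈ pCoreOf 2 L := by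
    intro d hd k hk
    haveI hn : ((pCoreOf 2 L).subgroupOf L).Normal :=
      (Subgroup.normal_subgroupOf_iff_le_normalizer hQL).mpr hLQ
    have hdL := hK₂L hd
    have hkL := hK₁L hk
    have hx : d * k * d⁻¹ * k⁻¹ ∈ CL L := by
      have h1 : ⁅d, k⁆ ∈ ⁅K₂, K₁⁆ := Subgroup.commutator_mem_commutator hd hk
      have h2 := jcomp_comm_le hN hZ hT1 hLT K₂ K₁ hK₂ hK₁ hK₂L hK₁L h1
      rwa [commutatorElement_def] at h2
    have h4 : d * k * d⁻¹ * k⁻¹ * j * (d * k * d⁻¹ * k⁻¹)⁻¹ * j⁻¹ ∈ pCoreOf 2 L := by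
      have := comm_CL_le hZ hTL hCQ (Subgroup.commutator_mem_commutator hx hjT)
      rwa [commutatorElement_def] at this
    have E := comm_mem_of_inverted ((pCoreOf 2 L).subgroupOf L) (⟨j, hjL⟩ : L) ⟨d, hdL⟩ ⟨k, hkL⟩
      (by simpa [Subgroup.mem_subgroupOf] using hR₁Q (hc1 k hk))
      (by simpa [Subgroup.mem_subgroupOf] using hR₂Q (hc2 d hd))
      (by simpa [Subgroup.mem_subgroupOf] using
        hR₂Q (Cfsg.Agent.Lib.Helper85.KS12.jcomp_cube_mem hK₂ d hd))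
      (by simpa [Subgroup.mem_subgroupOf] using h4)
    simpa [Subgroup.mem_subgroupOf] using E
  have hQ2 : IsPGroup 2 (pCoreOf 2 L) := Cfsg.Agent.Lib.Helper47.pCoreOf_isPGroup 2 L
  have hCN : CL L ≤ Subgroup.normalizer (K₁ : Set G) :=
    Cfsg.Agent.Lib.Helper67.KS12.le_normalizer_of_normalizes_J hK₁.1 hK₁.2.1
      (Cfsg.Agent.Lib.Helper85.KS12.thompsonSubgroupOf_isPGroup hT)
      (hK₁L.trans (le_normalizer_CL L)) (CL_le_normalizer_thompson hZ hTL hCQ)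
  have hQN : pCoreOf 2 L ≤ Subgroup.normalizer (K₁ : Set G) := (pCoreOf_le_CL L).trans hCN
  apply Cfsg.Agent.Lib.Helper53.le_normalizer_of_conj_mem
  intro d hd w hw
  have hgen := hK₁.1
  rw [← hgen] at hw
  induction hw using Subgroup.closure_induction with
  | mem y hy =>
    obtain ⟨hyK, hyodd⟩ := hy
    have h1 : d * y * d⁻¹ ∈ K₁ ⊔ pCoreOf 2 L := by
      have e : d * y * d⁻¹ = (d * y * d⁻¹ * y⁻¹) * y := by group
      rw [e]
      exact Subgroup.mul_mem _ ((le_sup_right : pCoreOf 2 L ≤ K₁ ⊔ pCoreOf 2 L) (key d hd y hyK))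
        ((le_sup_left : K₁ ≤ K₁ ⊔ pCoreOf 2 L) hyK)
    refine Cfsg.Agent.Lib.Helper67.KS12.mem_of_odd_of_mem_sup hQ2 hQN h1 ?_
    have e2 : orderOf (d * y * d⁻¹) = orderOf y := by
      have := (MulAut.conj d).orderOf_eq y
      rwa [MulAut.conj_apply] at this
    rw [e2]; exact hyodd
  | one => simpa using K₁.one_mem
  | mul a b _ _ ha hb =>
    have e : d * (a * b) * d⁻¹ = (d * a * d⁻¹) * (d * b * d⁻¹) := by group
    rw [e]; exact K₁.mul_mem ha hb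
  | inv a _ ha =>
    have e : d * a⁻¹ * d⁻¹ = (d * a * d⁻¹)⁻¹ := by group
    rw [e]; exact K₁.inv_mem ha

end KN

section Perm

open Cfsg.Agent.Lib.Helper71.JC

variable {G : Type*} [Group G]

/-- The subgroup of the elements of `G` permuting (by conjugation) the `J(T)`-components
contained in `L`. -/
def permComp (T L : Subgroup G) : Subgroup G where
  carrier := {x | ∀ K : Subgroup G, IsJComponent T K → K ≤ L →
    (IsJComponent T (K.map (MulAut.conj x).toMonoidHom) ∧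
      K.map (MulAut.conj x).toMonoidHom ≤ L) ∧
    (IsJComponent T (K.map (MulAut.conj x⁻¹).toMonoidHom) ∧
      K.map (MulAut.conj x⁻¹).toMonoidHom ≤ L)}
  mul_mem' := by
    intro x y hx hy K hK hKL
    have e1 : K.map (MulAut.conj (x * y)).toMonoidHom =
        (K.map (MulAut.conj y).toMonoidHom).map (MulAut.conj x).toMonoidHom := by
      rw [Subgroup.map_map]; congr 1; ext z; simp [MulAut.conj_apply, mul_assoc]
    have e2 : K.map (MulAut.conj (x * y)⁻¹).toMonoidHom =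
        (K.map (MulAut.conj x⁻¹).toMonoidHom).map (MulAut.conj y⁻¹).toMonoidHom := by
      rw [Subgroup.map_map]; congr 1; ext z; simp [MulAut.conj_apply, mul_assoc]
    rw [e1, e2]
    obtain ⟨⟨h1, h2⟩, -⟩ := hy K hK hKL
    obtain ⟨-, ⟨h3, h4⟩⟩ := hx K hK hKL
    exact ⟨(hx _ h1 h2).1, (hy _ h3 h4).2⟩
  one_mem' := by
    intro K hK hKL
    have e : K.map (MulAut.conj (1 : G)).toMonoidHom = K :=
      map_conj_eq_of_mem_normalizer (Subgroup.one_mem _)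
    rw [inv_one, e]
    exact ⟨⟨hK, hKL⟩, ⟨hK, hKL⟩⟩
  inv_mem' := by
    intro x hx K hK hKL
    rw [inv_inv]
    exact ⟨(hx K hK hKL).2, (hx K hK hKL).1⟩

theorem mem_permComp {T L : Subgroup G} {x : G} : x ∈ permComp T L ↔
    ∀ K : Subgroup G, IsJComponent T K → K ≤ L →
    (IsJComponent T (K.map (MulAut.conj x).toMonoidHom) ∧
      K.map (MulAut.conj x).toMonoidHom ≤ L) ∧
    (IsJComponent T (K.map (MulAut.conj x⁻¹).toMonoidHom) ∧
      K.map (MulAut.conj x⁻¹).toMonoidHom ≤ L) := Iff.rfl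

variable [Finite G]

/-- `L ∈ jOvergroups T` permutes its `J(T)`-components. -/
theorem le_permComp (hL : Cfsg.IsCharacteristicTwoType G)
    (hN : ∀ N : Subgroup G, Cfsg.IsTwoLocal N → Group.IsSolvable ↥N)
    (hZ : ∀ S : Sylow 2 G, Subgroup.centralizer (Cfsg.omegaCenterOf (S : Subgroup G) : Set G) ≤
      Subgroup.normalizer ((S : Subgroup G) : Set G))
    {T L : Subgroup G} (hT : IsPGroup 2 T) (hT1 : T ≠ ⊥) (hLT : L ∈ jOvergroups T) :
    L ≤ permComp T L := by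
  have hg : L ≤ sSup {K : Subgroup G | IsJComponent T K ∧ K ≤ L} ⊔
      (L ⊓ Subgroup.normalizer (thompsonSubgroupOf 2 T : Set G)) :=
    genByJComponents hN hZ hT1 hLT
  refine hg.trans (sup_le (sSup_le ?_) ?_)
  · rintro K' ⟨hK', hK'L⟩ k hk
    rw [mem_permComp]
    intro K hK hKL
    have h1 : k ∈ Subgroup.normalizer (K : Set G) :=
      jcomp_normalizes hL hN hZ hT hT1 hLT hK hK' hKL hK'L hk
    have h2 : k⁻¹ ∈ Subgroup.normalizer (K : Set G) := Subgroup.inv_mem _ h1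
    rw [map_conj_eq_of_mem_normalizer h1, map_conj_eq_of_mem_normalizer h2]
    exact ⟨⟨hK, hKL⟩, ⟨hK, hKL⟩⟩
  · intro n hn
    obtain ⟨hnL, hnJ⟩ := Subgroup.mem_inf.mp hn
    rw [mem_permComp]
    intro K hK hKL
    have hconj : ∀ m ∈ L, K.map (MulAut.conj m).toMonoidHom ≤ L := by
      rintro m hm _ ⟨k, hk, rfl⟩
      show m * k * m⁻¹ ∈ L
      exact L.mul_mem (L.mul_mem hm (hKL hk)) (L.inv_mem hm)
    exact ⟨⟨Cfsg.Agent.Lib.Helper81.KS12.isJComponent_map_conj hK hnJ, hconj n hnL⟩,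
      ⟨Cfsg.Agent.Lib.Helper81.KS12.isJComponent_map_conj hK (Subgroup.inv_mem _ hnJ),
        hconj _ (L.inv_mem hnL)⟩⟩

/-- **(PERM)** Conjugates of a `J(T)`-component of `L ∈ jOvergroups T` by elements of `L` are
`J(T)`-components of `L`. -/
theorem jcomp_conj_of_mem (hL : Cfsg.IsCharacteristicTwoType G)
    (hN : ∀ N : Subgroup G, Cfsg.IsTwoLocal N → Group.IsSolvable ↥N)
    (hZ : ∀ S : Sylow 2 G, Subgroup.centralizer (Cfsg.omegaCenterOf (S : Subgroup G) : Set G) ≤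
      Subgroup.normalizer ((S : Subgroup G) : Set G))
    {T L K : Subgroup G} (hT : IsPGroup 2 T) (hT1 : T ≠ ⊥) (hLT : L ∈ jOvergroups T)
    (hK : IsJComponent T K) (hKL : K ≤ L) {x : G} (hx : x ∈ L) :
    IsJComponent T (K.map (MulAut.conj x).toMonoidHom) ∧
      K.map (MulAut.conj x).toMonoidHom ≤ L :=
  (mem_permComp.mp (le_permComp hL hN hZ hT hT1 hLT hx) K hK hKL).1

/-- **(KEY)** `L ∩ N_G(W_K) ≤ N_G(K)` for a `J(T)`-component `K` of `L ∈ jOvergroups T`. -/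
theorem inf_normalizer_wOf_le (hL : Cfsg.IsCharacteristicTwoType G)
    (hN : ∀ N : Subgroup G, Cfsg.IsTwoLocal N → Group.IsSolvable ↥N)
    (hZ : ∀ S : Sylow 2 G, Subgroup.centralizer (Cfsg.omegaCenterOf (S : Subgroup G) : Set G) ≤
      Subgroup.normalizer ((S : Subgroup G) : Set G))
    {T L K : Subgroup G} (hT : IsPGroup 2 T) (hT1 : T ≠ ⊥) (hLT : L ∈ jOvergroups T)
    (hK : IsJComponent T K) (hKL : K ≤ L) :
    L ⊓ Subgroup.normalizer (wOf K : Set G) ≤ Subgroup.normalizer (K : Set G) := by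
  intro x hx
  obtain ⟨hxL, hxW⟩ := Subgroup.mem_inf.mp hx
  obtain ⟨hK', hK'L⟩ := jcomp_conj_of_mem hL hN hZ hT hT1 hLT hK hKL hxL
  apply mem_normalizer_of_map_conj_eq
  by_contra hne
  have hcent := Cfsg.Agent.Lib.Helper85.KS12.jComp_centralize_wOf hL hN hZ T L hT hT1 hLT K _
    hK hK' hKL hK'L (fun h => hne h.symm)
  have hW : wOf (K.map (MulAut.conj x).toMonoidHom) = wOf K := by
    rw [Cfsg.Agent.Lib.Helper81.KS12.wOf_map]; exact map_conj_eq_of_mem_normalizer hxW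
  have c' := cfg_of_isJComponent hT hK'
  obtain ⟨d, hd, hdR⟩ := c'.exists_d
  apply c'.W_ne_bot
  rw [Subgroup.eq_bot_iff_forall]
  intro w hw
  refine c'.hfp d hd hdR w hw ?_
  rw [hW] at hw
  exact conj_eq_iff_comm.mpr (Subgroup.mem_centralizer_iff.mp (hcent hd) w hw)

end Perm

end Cfsg.Agent.Lib.Helper11.KS12
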